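/-
Unitary groups over an extension field inside unitary groups: the lift of the form, fixed elements,
transvections over the extension field.
-/
import Cfsg.Agent.Lib.Transvec.HermGen
import Cfsg.Agent.Lib.FieldMax.Setup

set_option autoImplicit false
set_option linter.all false

namespace Cfsg.Agent.UFE

open scoped Matrix
open Matrix Cfsg.Agent.Transvec
open Cfsg.Agent.FieldMax (ktv mv_ktv IsKLin IsSemi line mem_line self_mem_line finrank_line)

variable {ι : Type} [Fintype ι] [DecidableEq ι] {F : Type*} [Field F]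
variable {K : Type*} [Field K] [Algebra F K] [Module K (ι → F)] [IsScalarTower F K (ι → F)]
variable {σ : F ≃+* F} {f : (ι → F) → (ι → F) → F} {τ : K ≃+* K} {ℓ : Module.Dual F K}

/-- An extension field whose scalars have their adjoints given by an involution. -/
structure Ext (σ : F ≃+* F) (f : (ι → F) → (ι → F) → F) (τ : K ≃+* K) (ℓ : Module.Dual F K) : Prop where
  herm : Geo.IsUnitaryForm σ f
  adj : ∀ (k : K) u v, f (k • u) v = f u (τ k • v)
  invol : ∀ k, τ (τ k) = k
  ext_map : ∀ c : F, τ (algebraMap F K c) = algebraMap F K (σ c)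
  ell_ne : ℓ ≠ 0
  ell_tau : ∀ k, ℓ (τ k) = σ (ℓ k)
  prime : (Module.finrank F K).Prime

variable (hE : Ext σ f τ ℓ)
include hE

theorem finite_K : Module.Finite F K := Module.finite_of_finrank_pos hE.prime.pos

theorem tau_smul (c : F) (k : K) : τ (c • k) = σ c • τ k := by
  rw [Algebra.smul_def, Algebra.smul_def, map_mul, hE.ext_map]

theorem tau_ne : τ ≠ RingEquiv.refl K := fun h => hE.herm.ne_refl (RingEquiv.ext fun c =>
  (algebraMap F K).injective (by rw [← hE.ext_map, h]; rfl))

theorem exists_theta : ∃ θ : F, σ θ ≠ θ := by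
  by_contra h
  push Not at h
  exact hE.herm.ne_refl (RingEquiv.ext h)

theorem exists_eta : ∃ η : F, η ≠ 0 ∧ σ η = -η := Herm.exists_anti hE.herm.ne_refl hE.herm.involutive

/-- Coordinates over the fixed field of the involution. -/
theorem coord {θ : F} (hθ : σ θ ≠ θ) (k : K) : ∃ a b : K, τ a = a ∧ τ b = b ∧ k = a + θ • b := by
  set w := algebraMap F K θ - τ (algebraMap F K θ) with hw
  have hw0 : w ≠ 0 := by
    rw [hw, hE.ext_map, sub_ne_zero]
    exact fun h => hθ ((algebraMap F K).injective h).symm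
  set b := (k - τ k) / w with hb
  have hσb : τ b = b := by
    rw [hb, map_div₀, hw, map_sub, map_sub, hE.invol, hE.invol, ← neg_sub k, ← neg_sub (algebraMap F K θ), neg_div_neg_eq]
  have hbd : b * w = k - τ k := div_mul_cancel₀ _ hw0
  refine ⟨k - θ • b, b, ?_, hσb, by abel⟩
  rw [map_sub, tau_smul hE, hσb]
  simp only [Algebra.smul_def]
  rw [hw, hE.ext_map] at hbd
  linear_combination hbd

theorem span_fixed : Submodule.span F {k : K | τ k = k} = ⊤ := by
  obtain ⟨θ, hθ⟩ := exists_theta hE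
  refine Submodule.eq_top_iff'.2 fun k => ?_
  obtain ⟨a, b, ha, hb, rfl⟩ := coord hE hθ k
  exact Submodule.add_mem _ (Submodule.subset_span ha) (Submodule.smul_mem _ _ (Submodule.subset_span hb))

theorem eq_zero_of_fixed {a b : K} (ha : τ a = a) (hb : τ b = b) {θ : F} (hθ : σ θ ≠ θ) (h : a + θ • b = 0) :
    a = 0 ∧ b = 0 := by
  have h2 : a + σ θ • b = 0 := by
    have := congrArg τ h
    rwa [map_add, tau_smul hE, ha, hb, map_zero] at this
  have h3 : (θ - σ θ) • b = 0 := by rw [sub_smul]; linear_combination h - h2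
  have hb0 : b = 0 := (smul_eq_zero.1 h3).resolve_left (sub_ne_zero.2 (Ne.symm hθ))
  rw [hb0, smul_zero, add_zero] at h
  exact ⟨h, hb0⟩

theorem ell_fixed {k : K} (hk : τ k = k) : σ (ℓ k) = ℓ k := by rw [← hE.ell_tau, hk]

theorem ell_anti {k : K} (hk : τ k = -k) : σ (ℓ k) = -ℓ k := by rw [← hE.ell_tau, hk, map_neg]

theorem eq_of_ell {x y : K} (h : ∀ a : K, ℓ (a * x) = ℓ (a * y)) : x = y := by
  by_contra hne
  refine hE.ell_ne (LinearMap.ext fun b => ?_)
  rw [LinearMap.zero_apply, ← div_mul_cancel₀ b (sub_ne_zero.2 hne), mul_sub, map_sub, h, sub_self]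

theorem eq_zero_of_ell_fixed {x : K} (h : ∀ t, τ t = t → ℓ (t * x) = 0) : x = 0 := by
  refine eq_of_ell hE fun a => ?_
  rw [mul_zero, map_zero]
  have hle : Submodule.span F {k : K | τ k = k} ≤ LinearMap.ker (ℓ.comp (LinearMap.mulRight F x)) :=
    Submodule.span_le.2 fun t ht => h t ht
  exact hle (span_fixed hE ▸ Submodule.mem_top)

theorem exists_anti_ell {x : K} (hx : x ≠ 0) : ∃ b : K, τ b = -b ∧ ℓ (b * x) ≠ 0 := by
  obtain ⟨η, hη0, hη⟩ := exists_eta hE
  by_contra h
  push Not at h
  refine hx (eq_zero_of_ell_fixed hE fun t ht => ?_)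
  have := h (η • t) (by rw [tau_smul hE, hη, ht, neg_smul])
  rw [smul_mul_assoc, map_smul, smul_eq_mul] at this
  exact (mul_eq_zero.1 this).resolve_left hη0

theorem exists_rep (φ : Module.Dual F K) : ∃ c : K, ∀ a, ℓ (a * c) = φ a := by
  haveI := finite_K hE
  let Φ : K →ₗ[F] Module.Dual F K :=
    { toFun := fun c => ℓ.comp (LinearMap.mulRight F c)
      map_add' := fun a b => LinearMap.ext fun x => by simp [mul_add]
      map_smul' := fun t a => LinearMap.ext fun x => by simp }
  have hinj : Function.Injective Φ := fun a b h => eq_of_ell hE fun x => LinearMap.congr_fun h x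
  obtain ⟨c, hc⟩ := (LinearMap.injective_iff_surjective_of_finrank_eq_finrank
    (Subspace.dual_finrank_eq).symm).1 hinj φ
  exact ⟨c, fun a => LinearMap.congr_fun hc a⟩

/-- The form over the extension field. -/
noncomputable def fK (x u : ι → F) : K :=
  (exists_rep hE
    { toFun := fun a => f (a • x) u
      map_add' := fun a b => by rw [add_smul, hE.herm.add_left]
      map_smul' := fun c a => by rw [smul_assoc, hE.herm.smul_left]; rfl }).choose

theorem ell_fK (a : K) (x u : ι → F) : ℓ (a * fK hE x u) = f (a • x) u :=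
  (exists_rep hE
    { toFun := fun a => f (a • x) u
      map_add' := fun a b => by rw [add_smul, hE.herm.add_left]
      map_smul' := fun c a => by rw [smul_assoc, hE.herm.smul_left]; rfl }).choose_spec a

theorem ell_fK_one (x u : ι → F) : ℓ (fK hE x u) = f x u := by
  have := ell_fK hE 1 x u
  rwa [one_mul, one_smul] at this

theorem fK_add_left (x y u : ι → F) : fK hE (x + y) u = fK hE x u + fK hE y u :=
  eq_of_ell hE fun a => by rw [ell_fK, mul_add, map_add, ell_fK, ell_fK, smul_add, hE.herm.add_left]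

theorem fK_smul_left (k : K) (x u : ι → F) : fK hE (k • x) u = k * fK hE x u :=
  eq_of_ell hE fun a => by rw [ell_fK, ← mul_assoc, ell_fK, smul_smul]

theorem fK_herm (x u : ι → F) : fK hE u x = τ (fK hE x u) :=
  eq_of_ell hE fun a => by
    rw [ell_fK, show a * τ (fK hE x u) = τ (τ a * fK hE x u) by rw [map_mul, hE.invol], hE.ell_tau, ell_fK,
      hE.adj]
    exact hE.herm.herm _ _

theorem fK_add_right (u x y : ι → F) : fK hE u (x + y) = fK hE u x + fK hE u y := by
  rw [fK_herm, fK_add_left, map_add, ← fK_herm, ← fK_herm]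

theorem fK_smul_right (k : K) (x u : ι → F) : fK hE u (k • x) = τ k * fK hE u x := by
  rw [fK_herm, fK_smul_left, map_mul, ← fK_herm]

theorem fK_zero_left (u : ι → F) : fK hE 0 u = 0 := by
  have := fK_smul_left hE 0 0 u
  rwa [zero_smul, zero_mul] at this

theorem fK_zero_right (u : ι → F) : fK hE u 0 = 0 := by rw [fK_herm, fK_zero_left, map_zero]

theorem fK_sub_left (x y u : ι → F) : fK hE (x - y) u = fK hE x u - fK hE y u := by
  rw [eq_sub_iff_add_eq, ← fK_add_left, sub_add_cancel]

theorem fK_sub_right (u x y : ι → F) : fK hE u (x - y) = fK hE u x - fK hE u y := by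
  rw [eq_sub_iff_add_eq, ← fK_add_right, sub_add_cancel]

theorem fK_eq_zero_comm {x y : ι → F} : fK hE x y = 0 ↔ fK hE y x = 0 := by
  rw [fK_herm hE y x, map_eq_zero_iff τ τ.injective]

theorem exists_fK_one {u : ι → F} (hu : u ≠ 0) : ∃ v, fK hE v u = 1 := by
  obtain ⟨v, hv⟩ := (hE.herm.nondegenerate u hu).1
  have h : fK hE v u ≠ 0 := fun h => hv (by rw [← ell_fK_one hE, h, map_zero])
  exact ⟨(fK hE v u)⁻¹ • v, by rw [fK_smul_left, inv_mul_cancel₀ h]⟩

theorem f_line_iso {u : ι → F} (hu : fK hE u u = 0) {x y : ι → F} (hx : x ∈ line K u) (hy : y ∈ line K u) :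
    f x y = 0 := by
  obtain ⟨a, rfl⟩ := mem_line.1 hx
  obtain ⟨b, rfl⟩ := mem_line.1 hy
  rw [← ell_fK_one hE, fK_smul_left, fK_smul_right, hu, mul_zero, mul_zero, map_zero]

theorem fK_line {u : ι → F} (hu : fK hE u u = 0) {x : ι → F} (hx : x ∈ line K u) : fK hE x u = 0 := by
  obtain ⟨a, rfl⟩ := mem_line.1 hx
  rw [fK_smul_left, hu, mul_zero]

/-- The functional x ↦ fK(x, u). -/
noncomputable def formK (u : ι → F) : Module.Dual K (ι → F) where
  toFun x := fK hE x u
  map_add' x y := fK_add_left hE x y u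
  map_smul' k x := fK_smul_left hE k x u

theorem formK_apply (u x : ι → F) : formK hE u x = fK hE x u := rfl

/-- The transvection z ↦ z + b fK(z, u) u. -/
noncomputable def T (u : ι → F) (hu : fK hE u u = 0) (b : K) : GL ι F :=
  ktv u (b • formK hE u) (by rw [LinearMap.smul_apply, formK_apply, hu, smul_zero])

theorem mv_T (u : ι → F) (hu : fK hE u u = 0) (b : K) (z : ι → F) :
    mv (T hE u hu b) z = z + (b * fK hE z u) • u :=
  mv_ktv _ z

theorem T_fix (u : ι → F) (hu : fK hE u u = 0) (b : K) {z : ι → F} (h : fK hE z u = 0) :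
    mv (T hE u hu b) z = z := by rw [mv_T, h, mul_zero, zero_smul, add_zero]

theorem T_isKLin (u : ι → F) (hu : fK hE u u = 0) (b : K) : IsKLin K (T hE u hu b) :=
  FieldMax.ktv_isKLin _

theorem fK_T (u : ι → F) (hu : fK hE u u = 0) {b : K} (hb : τ b = -b) (z y : ι → F) :
    fK hE (mv (T hE u hu b) z) (mv (T hE u hu b) y) = fK hE z y := by
  rw [mv_T, mv_T, fK_add_left, fK_add_right, fK_add_right, fK_smul_left, fK_smul_left, fK_smul_right,
    fK_smul_right, hu, map_mul, hb, ← fK_herm hE y u]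
  ring

theorem T_mem [Fintype F] (u : ι → F) (hu : fK hE u u = 0) {b : K} (hb : τ b = -b) :
    T hE u hu b ∈ preserving (Units.coeHom (Matrix ι ι F)) f ⊓ Geo.specialLinear ι F :=
  ⟨fun x y => show f (mv (T hE u hu b) x) (mv (T hE u hu b) y) = f x y by
    rw [← ell_fK_one hE, fK_T hE u hu hb, ell_fK_one], FieldMax.ktv_mem_specialLinear _⟩

omit hE in
theorem isSemi_of_isKLin {g : GL ι F} (hg : IsKLin K g) : IsSemi K g := fun k => ⟨k, fun v => hg k v⟩

theorem mem_T [Fintype F] {M : Subgroup (GL ι F)}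
    (hNM : ∀ g, IsSemi K g → g ∈ preserving (Units.coeHom (Matrix ι ι F)) f ⊓ Geo.specialLinear ι F → g ∈ M)
    (u : ι → F) (hu : fK hE u u = 0) {b : K} (hb : τ b = -b) : T hE u hu b ∈ M :=
  hNM _ (isSemi_of_isKLin (T_isKLin hE u hu b)) (T_mem hE u hu hb)

theorem two_le : 2 ≤ Module.finrank F K := hE.prime.two_le

end Cfsg.Agent.UFE
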