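/-
Common zeros in the fixed field: isotropic vectors over the extension in images of lines, pencils.
-/
import Cfsg.Agent.Lib.UnitaryFieldExt.Setup
import Cfsg.Agent.Lib.TensorMax.UCount

set_option autoImplicit false
set_option linter.all false

namespace Cfsg.Agent.UFE

open scoped Matrix
open Matrix MvPolynomial Cfsg.Agent.Transvec
open Cfsg.Agent.Transvec.Herm (fixedField mem_fixedField)
open Cfsg.Agent.FieldMax (IsKLin IsSemi line mem_line self_mem_line finrank_line)

/-- Few equations with fixed coefficients have a non-trivial fixed zero. -/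
theorem exists_fixed_zero {F : Type*} [Field F] [Finite F] {σ : F ≃+* F} {κ δ : Type} [Fintype κ] [DecidableEq κ]
    [Fintype δ] (Q : δ → MvPolynomial κ F) (hfix : ∀ d, MvPolynomial.map (σ : F →+* F) (Q d) = Q d)
    (h0 : ∀ d, eval 0 (Q d) = 0) (hdeg : ∑ d, (Q d).totalDegree < Fintype.card κ) :
    ∃ x : κ → F, x ≠ 0 ∧ (∀ k, σ (x k) = x k) ∧ ∀ d, eval x (Q d) = 0 := by
  classical
  let _ : Fintype (fixedField σ) := Fintype.ofFinite _
  choose Q' hQ' hdeg' using fun d => TensorMax.U.exists_descend σ (Q d) (hfix d)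
  obtain ⟨p, hp⟩ := CharP.exists (fixedField σ)
  have hpp : p.Prime := CharP.char_is_prime (fixedField σ) p
  have hlt : ∑ d ∈ Finset.univ, (Q' d).totalDegree < Fintype.card κ :=
    lt_of_le_of_lt (Finset.sum_le_sum fun d _ => hdeg' d) hdeg
  have hdvd := char_dvd_card_solutions_of_sum_lt p (s := Finset.univ) (f := Q') hlt
  have hev : ∀ (x : κ → fixedField σ) (d : δ),
      ((eval x (Q' d) : fixedField σ) : F) = eval (fun k => (x k : F)) (Q d) := by
    intro x d
    rw [← hQ' d, eval_map, ← coe_eval₂Hom]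
    exact eval₂_comp (fixedField σ).subtype x (Q' d)
  have hz : ∀ d ∈ Finset.univ, eval (0 : κ → fixedField σ) (Q' d) = 0 := fun d _ => Subtype.ext (by
    rw [hev]
    exact h0 d)
  have hpos : 0 < Fintype.card {x : κ → fixedField σ // ∀ d ∈ Finset.univ, eval x (Q' d) = 0} :=
    Fintype.card_pos_iff.2 ⟨⟨0, hz⟩⟩
  obtain ⟨⟨x, hx⟩, hne⟩ := Fintype.exists_ne_of_one_lt_card
    (hpp.one_lt.trans_le (Nat.le_of_dvd hpos (by convert hdvd))) ⟨0, hz⟩
  refine ⟨fun k => (x k : F), fun h => hne (Subtype.ext (funext fun k => Subtype.ext ?_)), fun k => (x k).2,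
    fun d => ?_⟩
  · simpa using congrFun h k
  · rw [← hev, hx d (Finset.mem_univ _), ZeroMemClass.coe_zero]

/-- A hermitian pencil of fewer rows than members is singular at a non-trivial fixed point. -/
theorem exists_det_zero {F : Type*} [Field F] [Finite F] {σ : F ≃+* F} {κ : Type} [Fintype κ] [DecidableEq κ]
    {m : ℕ} (hm : 0 < m) (A : κ → Matrix (Fin m) (Fin m) F) (hA : ∀ k i j, σ (A k i j) = A k j i)
    (hcard : m < Fintype.card κ) :
    ∃ x : κ → F, x ≠ 0 ∧ (∀ k, σ (x k) = x k) ∧ (∑ k, x k • A k).det = 0 := by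
  classical
  haveI : Nonempty (Fin m) := ⟨⟨0, hm⟩⟩
  set H : Matrix (Fin m) (Fin m) (MvPolynomial κ F) := Matrix.of fun i j => ∑ k, C (A k i j) * X k with hH
  have hval : ∀ x : κ → F, eval x H.det = (∑ k, x k • A k).det := by
    intro x
    rw [RingHom.map_det]
    congr 1
    funext i j
    simp [hH, Matrix.sum_apply, mul_comm]
  obtain ⟨x, hx, hσx, hz⟩ := exists_fixed_zero (σ := σ) (δ := Unit) (fun _ => H.det) (fun _ => by
    rw [RingHom.map_det]
    conv_rhs => rw [← Matrix.det_transpose]
    congr 1
    funext i j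
    simp only [hH, RingHom.mapMatrix_apply, Matrix.map_apply, Matrix.transpose_apply, Matrix.of_apply,
      map_sum, map_mul, map_C, map_X]
    exact Finset.sum_congr rfl fun k _ => by rw [show (σ : F →+* F) (A k i j) = A k j i from hA k i j])
    (fun _ => by rw [hval]; simp) (by
      rw [Finset.sum_const, Finset.card_univ, Fintype.card_unit, one_smul]
      refine lt_of_le_of_lt ?_ hcard
      rw [Matrix.det_apply]
      refine totalDegree_finsetSum_le fun π _ => (totalDegree_smul_le _ _).trans ?_
      refine (totalDegree_finsetProd _ _).trans ?_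
      refine (Finset.sum_le_card_nsmul _ _ 1 fun i _ => ?_).trans (by simp)
      simp only [hH, Matrix.of_apply]
      refine totalDegree_finsetSum_le fun k _ => (totalDegree_mul _ _).trans ?_
      rw [totalDegree_C, totalDegree_X])
  exact ⟨x, hx, hσx, by rw [← hval]; exact hz ()⟩

variable {ι : Type} [Fintype ι] [DecidableEq ι] {F : Type*} [Field F]
variable {K : Type*} [Field K] [Algebra F K] [Module K (ι → F)] [IsScalarTower F K (ι → F)]
variable {σ : F ≃+* F} {f : (ι → F) → (ι → F) → F} {τ : K ≃+* K} {ℓ : Module.Dual F K}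
variable (hE : Ext σ f τ ℓ)
include hE

/-- A basis of fixed elements whose first member is one. -/
theorem exists_fixed_basis :
    ∃ t : Fin (Module.finrank F K - 1) → K, (∀ i, τ (t i) = t i) ∧
      Submodule.span F (insert 1 (Set.range t)) = ⊤ := by
  classical
  haveI := finite_K hE
  have h1 : LinearIndepOn F id ({1} : Set K) := LinearIndepOn.singleton (v := id) one_ne_zero
  obtain ⟨B, hBS, hB1, hBspan, hBind⟩ := exists_linearIndepOn_id_extension (t := {k : K | τ k = k}) h1
    (Set.singleton_subset_iff.2 (map_one τ))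
  have hsp : Submodule.span F B = ⊤ := top_le_iff.1 (span_fixed hE ▸ Submodule.span_le.2 hBspan)
  let bs : Module.Basis B F K := Module.Basis.mk hBind.linearIndependent (by
    simp only [id_eq, Subtype.range_coe_subtype, Set.setOf_mem_eq]
    exact hsp.ge)
  haveI : Fintype B := FiniteDimensional.fintypeBasisIndex bs
  have hcard : Fintype.card B = Module.finrank F K := (Module.finrank_eq_card_basis bs).symm
  have h11 : (1 : K) ∈ B := hB1 rfl
  have hc' : Fintype.card {x : B // x ≠ ⟨1, h11⟩} = Module.finrank F K - 1 := by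
    rw [← hcard, Fintype.card_subtype_compl, Fintype.card_subtype_eq]
  let e := (Fintype.equivFinOfCardEq hc').symm
  refine ⟨fun i => ((e i).1 : K), fun i => hBS (e i).1.2, top_le_iff.1 (hsp ▸ Submodule.span_mono ?_)⟩
  intro x hx
  by_cases h : x = 1
  · exact Set.mem_insert_iff.2 (Or.inl h)
  · exact Set.mem_insert_iff.2 (Or.inr ⟨e.symm ⟨⟨x, hx⟩, fun he => h (congrArg Subtype.val he)⟩, by simp⟩)

/-- The image of an isotropic line contains an isotropic vector. -/
theorem exists_isotropic_in [Finite F] {u : ι → F} (hu0 : u ≠ 0) (hu : fK hE u u = 0) {g : GL ι F}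
    (hg : ∀ x y, f (mv g x) (mv g y) = f x y) :
    ∃ x ∈ (line K u).map (mvLin g), x ≠ 0 ∧ fK hE x x = 0 := by
  classical
  haveI := finite_K hE
  obtain ⟨θ, hθ⟩ := exists_theta hE
  obtain ⟨t, ht, hspan⟩ := exists_fixed_basis hE
  let b := Module.finBasis F K
  let w : Fin (Module.finrank F K) × Bool → ι → F := fun k => mv g ((bif k.2 then θ • b k.1 else b k.1) • u)
  have hfix : ∀ i k l, σ (f (t i • w k) (w l)) = f (t i • w l) (w k) := fun i k l => by
    rw [hE.adj (t i) (w l), ht, ← hE.herm.herm]
  let Q : Fin (Module.finrank F K - 1) → MvPolynomial (Fin (Module.finrank F K) × Bool) F := fun i =>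
    ∑ k, ∑ l, C (f (t i • w k) (w l)) * (X k * X l)
  obtain ⟨c, hc0, hcσ, hcz⟩ := exists_fixed_zero (σ := σ) Q (fun i => by
      simp only [Q, map_sum, map_mul, map_C, map_X]
      rw [Finset.sum_comm]
      refine Finset.sum_congr rfl fun k _ => Finset.sum_congr rfl fun l _ => ?_
      rw [show (σ : F →+* F) (f (t i • w l) (w k)) = f (t i • w k) (w l) from hfix i l k,
        mul_comm (X l : MvPolynomial (Fin (Module.finrank F K) × Bool) F)])
    (fun i => by simp [Q]) (by
      have hd : ∀ i, (Q i).totalDegree ≤ 2 := fun i => by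
        refine totalDegree_finsetSum_le fun k _ => totalDegree_finsetSum_le fun l _ =>
          (totalDegree_mul _ _).trans ?_
        rw [totalDegree_C, zero_add]
        refine (totalDegree_mul _ _).trans ?_
        rw [totalDegree_X, totalDegree_X]
      refine lt_of_le_of_lt (Finset.sum_le_card_nsmul _ _ 2 fun i _ => hd i) ?_
      have := hE.prime.two_le
      simp only [Finset.card_univ, Fintype.card_fin, smul_eq_mul, Fintype.card_prod, Fintype.card_bool]
      omega)
  set a : K := ∑ i, (c (i, false) + θ * c (i, true)) • b i with ha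
  have hx : mv g (a • u) = ∑ k, c k • w k := by
    rw [Fintype.sum_prod_type, ha, Finset.sum_smul, mv_sum]
    refine Finset.sum_congr rfl fun i _ => ?_
    rw [Fintype.sum_bool, smul_assoc, mv_smul, add_smul]
    show _ = c (i, true) • mv g ((θ • b i) • u) + c (i, false) • mv g (b i • u)
    rw [smul_assoc θ, mv_smul, smul_smul, mul_comm θ, add_comm]
  have ha0 : a ≠ 0 := fun h => hc0 (funext fun ⟨i, z⟩ => by
    have h1 : ∀ i, c (i, false) + θ * c (i, true) = 0 := Fintype.linearIndependent_iff.1 b.linearIndependent _ h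
    have h3 : c (i, false) + σ θ * c (i, true) = 0 := by
      have := congrArg σ (h1 i)
      rwa [map_add, map_mul, hcσ, hcσ, map_zero] at this
    have h4 : c (i, true) = 0 := by
      have h5 : (θ - σ θ) * c (i, true) = 0 := by linear_combination h1 i - h3
      exact (mul_eq_zero.1 h5).resolve_left (sub_ne_zero.2 (Ne.symm hθ))
    cases z
    · have := h1 i; rw [h4, mul_zero, add_zero] at this; exact this
    · exact h4)
  refine ⟨mv g (a • u), ⟨a • u, mem_line.2 ⟨a, rfl⟩, Matrix.toLin'_apply _ _⟩,
    fun h => smul_ne_zero ha0 hu0 (mv_inj g (h.trans (mv_zero g).symm)), ?_⟩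
  refine eq_of_ell hE fun k => ?_
  rw [mul_zero, map_zero, ell_fK]
  set x := mv g (a • u)
  have hle : Submodule.span F (insert 1 (Set.range t)) ≤
      LinearMap.ker ((Herm.formH hE.herm x).comp ((LinearMap.toSpanSingleton K (ι → F) x).restrictScalars F)) := by
    rw [Submodule.span_le]
    rintro s (rfl | ⟨i, rfl⟩)
    · show f ((1 : K) • x) x = 0
      rw [one_smul, hg]
      exact f_line_iso hE hu (mem_line.2 ⟨a, rfl⟩) (mem_line.2 ⟨a, rfl⟩)
    · show f (t i • x) x = 0
      have h2 := hcz i
      simp only [Q, map_sum, map_mul, eval_C, eval_X] at h2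
      rw [hx, Finset.smul_sum, ← Herm.formH_apply hE.herm, map_sum, ← h2]
      refine Finset.sum_congr rfl fun k _ => ?_
      rw [smul_comm, map_smul, Herm.formH_apply hE.herm, smul_eq_mul]
      rw [hE.herm.herm, ← Herm.formH_apply hE.herm, map_sum, map_sum, Finset.mul_sum]
      refine Finset.sum_congr rfl fun l _ => ?_
      rw [map_smul, smul_eq_mul, map_mul, hcσ, Herm.formH_apply hE.herm, ← hE.herm.herm]
      ring
  exact hle (hspan ▸ Submodule.mem_top)

end Cfsg.Agent.UFE
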