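/-
A map of rank two in an overgroup, from two lines meeting in a hyperplane.
-/
import Cfsg.Agent.Lib.UnitaryFieldExt.Setup
import Cfsg.Agent.Lib.SympFieldExt.Commutator

set_option autoImplicit false
set_option linter.all false

namespace Cfsg.Agent.UFE

open scoped Matrix
open Matrix Cfsg.Agent.Transvec
open Cfsg.Agent.FieldMax (IsKLin IsSemi line mem_line self_mem_line finrank_line line_eq smul_mem_line)
open Cfsg.Agent.SympFieldExt (Mem mv_inv_of)

variable {ι : Type} [Fintype ι] [DecidableEq ι] {F : Type*} [Field F] [Fintype F]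
variable {K : Type*} [Field K] [Algebra F K] [Module K (ι → F)] [IsScalarTower F K (ι → F)]
variable {σ : F ≃+* F} {f : (ι → F) → (ι → F) → F} {τ : K ≃+* K} {ℓ : Module.Dual F K}
variable (hE : Ext σ f τ ℓ)
include hE

/-- Two independent fixed elements killed by a fixed functional. -/
theorem exists_two_fixed (h3 : 3 ≤ Module.finrank F K) {k : K} (hk : τ k = k) :
    ∃ t₁ t₂ : K, τ t₁ = t₁ ∧ τ t₂ = t₂ ∧ ℓ (t₁ * k) = 0 ∧ ℓ (t₂ * k) = 0 ∧
      t₁ ≠ 0 ∧ t₂ ∉ Submodule.span F {t₁} := by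
  haveI := finite_K hE
  set φ : Module.Dual F K := ℓ.comp (LinearMap.mulRight F k) with hφ
  have hφt : ∀ t, φ t = ℓ (t * k) := fun t => rfl
  set S : Set K := {t | τ t = t ∧ φ t = 0}
  have hle : LinearMap.ker φ ≤ Submodule.span F S := by
    by_cases h : ∀ t, τ t = t → φ t = 0
    · intro x _
      have : S = {t : K | τ t = t} := Set.ext fun t => ⟨fun h => h.1, fun ht => ⟨ht, h t ht⟩⟩
      rw [this, span_fixed hE]; exact Submodule.mem_top
    push Not at h
    obtain ⟨t₀, ht₀, h0⟩ := h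
    intro x hx
    let π : K →ₗ[F] K := LinearMap.id - (φ t₀)⁻¹ • φ.smulRight t₀
    have hπ : ∀ t, π t = t - ((φ t₀)⁻¹ * φ t) • t₀ := fun t => by simp [π, smul_smul]
    have h1 : Submodule.span F {t : K | τ t = t} ≤ (Submodule.span F S).comap π := by
      refine Submodule.span_le.2 fun t ht => Submodule.subset_span ⟨?_, ?_⟩
      · have hσ : ∀ s, τ s = s → σ (φ s) = φ s := fun s hs => by
          rw [hφt]; exact ell_fixed hE (by rw [map_mul, hs, hk])
        rw [hπ, map_sub, tau_smul hE, ht, ht₀, map_mul, map_inv₀, hσ _ ht, hσ _ ht₀]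
      · rw [hπ, map_sub, map_smul, smul_eq_mul, mul_right_comm, inv_mul_cancel₀ h0, one_mul, sub_self]
    have h2 := h1 (span_fixed hE ▸ Submodule.mem_top (x := x))
    rwa [Submodule.mem_comap, hπ, LinearMap.mem_ker.1 hx, mul_zero, zero_smul, sub_zero] at h2
  have h2 : 2 ≤ Module.finrank F ↥(Submodule.span F S) := by
    have h1 := LinearMap.finrank_range_add_finrank_ker φ
    have h4 := Submodule.finrank_le (LinearMap.range φ)
    rw [Module.finrank_self] at h4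
    have := Submodule.finrank_mono hle
    omega
  obtain ⟨t₁, ht₁, ht₁0⟩ : ∃ t₁ ∈ S, t₁ ≠ 0 := by
    by_contra h
    push Not at h
    have : Submodule.span F S = ⊥ := Submodule.span_eq_bot.2 h
    rw [this, finrank_bot] at h2; omega
  obtain ⟨t₂, ht₂, ht₂s⟩ : ∃ t₂ ∈ S, t₂ ∉ Submodule.span F {t₁} := by
    by_contra h
    push Not at h
    have := Submodule.finrank_mono (Submodule.span_le.2 h : Submodule.span F S ≤ Submodule.span F {t₁})
    rw [finrank_span_singleton ht₁0] at this; omega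
  exact ⟨t₁, t₂, ht₁.1, ht₂.1, ht₁.2, ht₂.2, ht₁0, ht₂s⟩

variable {M : Subgroup (GL ι F)}
  (hNM : ∀ g, IsSemi K g → g ∈ preserving (Units.coeHom (Matrix ι ι F)) f ⊓ Geo.specialLinear ι F → g ∈ M)
  (hMS : M ≤ preserving (Units.coeHom (Matrix ι ι F)) f ⊓ Geo.specialLinear ι F)
include hNM hMS

/-- The rank two map. -/
theorem exists_rank_two (h3 : 3 ≤ Module.finrank F K) {u : ι → F} (hu0 : u ≠ 0) (hu : fK hE u u = 0) {g : GL ι F}
    (hg : g ∈ M) (hW : Module.finrank F ↥(line K u ⊓ (line K u).map (mvLin g)) + 1 = Module.finrank F K)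
    {z₀ : ι → F} (hz₀ : z₀ ∈ (line K u).map (mvLin g)) (hz₀u : fK hE z₀ u ≠ 0) :
    ∃ v : ι → F, v ≠ 0 ∧ fK hE v v = 0 ∧ ∃ t₁ t₂ : K, τ t₁ = t₁ ∧ τ t₂ = t₂ ∧ t₁ ≠ 0 ∧
      t₂ ∉ Submodule.span F {t₁} ∧ ∃ γ : F, γ ≠ 0 ∧ σ γ = -γ ∧
      Mem M fun z => γ • (f z (t₁ • v) • (t₂ • v) + f z (t₂ • v) • (t₁ • v)) := by
  classical
  haveI := finite_K hE
  have hgf : ∀ x y, f (mv g x) (mv g y) = f x y := (hMS hg).1
  have hherm := hE.herm
  set L := line K u with hL
  set L' := L.map (mvLin g) with hL'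
  obtain ⟨W, hWdef⟩ : ∃ W, W = L ⊓ L' := ⟨_, rfl⟩
  rw [← hWdef] at hW
  have hLiso : ∀ a ∈ L, ∀ b ∈ L, f a b = 0 := fun a ha b hb => f_line_iso hE hu ha hb
  have hL'iso : ∀ a ∈ L', ∀ b ∈ L', f a b = 0 := by
    rintro _ ⟨a, ha, rfl⟩ _ ⟨b, hb, rfl⟩
    rw [Matrix.toLin'_apply, Matrix.toLin'_apply]
    exact (hgf a b).trans (hLiso a ha b hb)
  have hWL : ∀ a ∈ W, a ∈ L := fun a ha => (hWdef ▸ ha : a ∈ L ⊓ L').1
  have hWL' : ∀ a ∈ W, a ∈ L' := fun a ha => (hWdef ▸ ha : a ∈ L ⊓ L').2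
  -- the hyperbolic pair
  have hne : fK hE u z₀ ≠ 0 := fun h => hz₀u ((fK_eq_zero_comm hE).1 h)
  obtain ⟨e, heL, hee⟩ : ∃ e ∈ L, f e z₀ = 1 := by
    obtain ⟨b, -, hb⟩ := exists_anti_ell hE hne
    exact ⟨(ℓ (b * fK hE u z₀))⁻¹ • (b • u), L.smul_mem _ (mem_line.2 ⟨b, rfl⟩), by
      rw [hherm.smul_left, ← ell_fK hE, inv_mul_cancel₀ hb]⟩
  have hee' : f z₀ e = 1 := by rw [hherm.herm, hee, map_one]
  have hLe : ∀ x ∈ L, x - f x z₀ • e ∈ W := by
    intro x hx
    have hK0 : W = L ⊓ LinearMap.ker (Herm.formH hherm z₀) := by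
      refine Submodule.eq_of_le_of_finrank_le
        (fun a ha => ⟨hWL a ha, hL'iso a (hWL' a ha) z₀ hz₀⟩) ?_
      have hlt : L ⊓ LinearMap.ker (Herm.formH hherm z₀) < L := lt_of_le_of_ne inf_le_left fun h => by
        have := (h.ge heL).2
        rw [SetLike.mem_coe, LinearMap.mem_ker, Herm.formH_apply hherm, hee] at this
        exact one_ne_zero this
      have := Submodule.finrank_lt_finrank_of_lt hlt
      rw [finrank_line hu0] at this
      omega
    rw [hK0]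
    exact ⟨L.sub_mem hx (L.smul_mem _ heL), by
      rw [SetLike.mem_coe, LinearMap.mem_ker, map_sub, map_smul, Herm.formH_apply hherm, Herm.formH_apply hherm,
        hee, smul_eq_mul, mul_one, sub_self]⟩
  have hL'e : ∀ x ∈ L', x - f x e • z₀ ∈ W := by
    intro x hx
    have hinj : Function.Injective (mvLin g) := fun x y h => mv_inj g (by simpa using h)
    have hd : Module.finrank F L' = Module.finrank F K := by
      rw [hL', ← LinearEquiv.finrank_eq (Submodule.equivMapOfInjective (mvLin g) hinj L), finrank_line hu0]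
    have hK0 : W = L' ⊓ LinearMap.ker (Herm.formH hherm e) := by
      refine Submodule.eq_of_le_of_finrank_le (fun a ha => ⟨hWL' a ha, hLiso a (hWL a ha) e heL⟩) ?_
      have hlt : L' ⊓ LinearMap.ker (Herm.formH hherm e) < L' := lt_of_le_of_ne inf_le_left fun h => by
        have := (h.ge hz₀).2
        rw [SetLike.mem_coe, LinearMap.mem_ker, Herm.formH_apply hherm, hee'] at this
        exact one_ne_zero this
      have := Submodule.finrank_lt_finrank_of_lt hlt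
      omega
    rw [hK0]
    exact ⟨L'.sub_mem hx (L'.smul_mem _ hz₀), by
      rw [SetLike.mem_coe, LinearMap.mem_ker, map_sub, map_smul, Herm.formH_apply hherm, Herm.formH_apply hherm,
        hee', smul_eq_mul, mul_one, sub_self]⟩
  -- the first map
  set p := fK hE z₀ u with hp
  obtain ⟨b, hb, hbℓ⟩ := exists_anti_ell hE (x := p * τ p)
    (mul_ne_zero hz₀u (by rwa [Ne, map_eq_zero_iff τ τ.injective]))
  let X : (ι → F) →ₗ[F] ι → F := ((b • formK hE u).smulRight u).restrictScalars F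
  have hX : ∀ z, X z = (b * fK hE z u) • u := fun z => rfl
  set tX := T hE u hu b with htX
  have hXM : tX ∈ M := mem_T hE hNM u hu hb
  have hXz : ∀ z, mv tX z = z + X z := fun z => by rw [htX, mv_T, hX]
  have hXL : ∀ x ∈ L, X x = 0 := fun x hx => by rw [hX, fK_line hE hu hx, mul_zero, zero_smul]
  have hXr : ∀ z, X z ∈ L := fun z => by rw [hX]; exact mem_line.2 ⟨_, rfl⟩
  have hXs : ∀ z y, f (X z) y + f z (X y) = 0 := fun z y => by
    rw [hX, hX, ← ell_fK_one hE, ← ell_fK_one hE, fK_smul_left, fK_smul_right, ← map_add, ← map_zero ℓ]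
    congr 1
    rw [map_mul, hb, fK_herm hE y u]; ring
  have hXX : ∀ z, X (X z) = 0 := fun z => hXL _ (hXr z)
  set v := X z₀ with hv
  set γ := f v z₀ with hγ
  have hγ0 : γ ≠ 0 := by
    rw [hγ, hv, hX, ← ell_fK hE, fK_herm hE z₀ u, ← hp, mul_assoc]
    exact hbℓ
  have hγσ : σ γ = -γ := by
    have := hXs z₀ z₀
    rw [← hv, hherm.herm z₀ v] at this
    linear_combination this
  have hXW : ∀ z, X z + f z v • e ∈ W := fun z => by
    have h1 := hLe _ (hXr z)
    have h2 := hXs z z₀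
    rw [← hv] at h2
    rwa [show f (X z) z₀ = -f z v by linear_combination h2, neg_smul, sub_neg_eq_add] at h1
  -- the second family
  obtain ⟨η, hη0, hη⟩ := exists_eta hE
  set qf := fK hE (mv g⁻¹ e) u with hqf
  have hqf0 : qf ≠ 0 := by
    intro h
    obtain ⟨x, hx, hgx⟩ := hz₀
    obtain ⟨c, rfl⟩ := mem_line.1 hx
    rw [Matrix.toLin'_apply] at hgx
    have h1 : f (mv g (mv g⁻¹ e)) (mv g (c • u)) = f (mv g⁻¹ e) (c • u) := hgf _ _
    rw [mv_mv_inv, show mv g (c • u) = z₀ from hgx, hee, ← ell_fK_one hE, fK_smul_right, ← hqf, h, mul_zero,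
      map_zero] at h1
    exact one_ne_zero h1
  obtain ⟨t₁, t₂, ht₁, ht₂, hℓ₁, hℓ₂, ht₁0, ht₂s⟩ := exists_two_fixed hE h3 (k := qf * τ qf)
    (by rw [map_mul, hE.invol, mul_comm])
  set u₂ := (η • qf) • u with hu₂
  let Y : K → ((ι → F) →ₗ[F] ι → F) := fun t =>
    (mvLin g).comp ((((η • t) • formK hE u).smulRight u).restrictScalars F ∘ₗ (mvLin g⁻¹))
  have hY : ∀ t z, Y t z = mv g (((η • t) * fK hE (mv g⁻¹ z) u) • u) := fun t z => by
    simp only [Y, mvLin, LinearMap.comp_apply, Matrix.toLin'_apply]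
    rfl
  have key : ∀ t, τ t = t → ℓ (t * (qf * τ qf)) = 0 → Y t e = mv g (t • u₂) ∧ mv g (t • u₂) ∈ W ∧
      Mem M fun z => f z (mv g (t • u₂)) • v - f z v • mv g (t • u₂) + (γ * f z (mv g (t • u₂))) • mv g (t • u₂) := by
    intro t ht hℓ
    have hc : τ (η • t) = -(η • t) := by rw [tau_smul hE, hη, ht, neg_smul]
    set w := mv g (t • u₂) with hw
    have hYe : Y t e = w := by
      rw [hY, ← hqf, hw, hu₂, smul_smul, smul_mul_assoc η, mul_smul_comm]
    have hYM : g * T hE u hu (η • t) * g⁻¹ ∈ M := M.mul_mem (M.mul_mem hg (mem_T hE hNM u hu hc)) (M.inv_mem hg)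
    have hYz : ∀ z, mv (g * T hE u hu (η • t) * g⁻¹) z = z + Y t z := fun z => by
      rw [mv_mul, mv_mul, mv_T, mv_add, mv_mv_inv, hY]
    have hYL : ∀ x ∈ L', Y t x = 0 := by
      rintro _ ⟨a, ha, rfl⟩
      rw [hY, Matrix.toLin'_apply, show ((g : Matrix ι ι F) *ᵥ a) = mv g a from rfl, mv_inv_mv,
        fK_line hE hu ha, mul_zero, zero_smul, mv_zero]
    have hYr : ∀ z, Y t z ∈ L' := fun z =>
      ⟨_, mem_line.2 ⟨(η • t) * fK hE (mv g⁻¹ z) u, rfl⟩, by rw [hY]; exact Matrix.toLin'_apply _ _⟩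
    have hYs : ∀ z y, f (Y t z) y + f z (Y t y) = 0 := fun z y => by
      rw [hY, hY]
      conv_lhs => arg 1; rw [← mv_mv_inv g y, hgf]
      conv_lhs => arg 2; rw [← mv_mv_inv g z, hgf]
      rw [← ell_fK_one hE, ← ell_fK_one hE, fK_smul_left, fK_smul_right, ← map_add, ← map_zero ℓ]
      congr 1
      rw [map_mul, hc, fK_herm hE (mv g⁻¹ y) u]; ring
    have hwe : f w e = 0 := by
      have h1 : f (mv g (t • u₂)) (mv g (mv g⁻¹ e)) = f (t • u₂) (mv g⁻¹ e) := hgf _ _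
      rw [mv_mv_inv, ← hw] at h1
      rw [h1, hu₂, smul_smul, ← ell_fK hE, fK_herm hE (mv g⁻¹ e) u, ← hqf, mul_smul_comm, smul_mul_assoc, map_smul,
        mul_assoc, hℓ, smul_zero]
    have hwL' : w ∈ L' := hYe ▸ hYr e
    have hwW : w ∈ W := by
      have := hL'e w hwL'
      rwa [hwe, zero_smul, sub_zero] at this
    have hYW : ∀ z, Y t z + f z w • z₀ ∈ W := fun z => by
      have h1 := hL'e _ (hYr z)
      have h2 := hYs z e
      rw [hYe] at h2
      rwa [show f (Y t z) e = -f z w by linear_combination h2, neg_smul, sub_neg_eq_add] at h1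
    have hYX : ∀ z, Y t (X z) = -(f z v • w) := fun z => by
      conv_lhs => rw [show X z = (X z + f z v • e) + -(f z v • e) by abel]
      rw [map_add, hYL _ (hWL' _ (hXW z)), map_neg, map_smul, hYe, zero_add]
    have hXY : ∀ z, X (Y t z) = -(f z w • v) := fun z => by
      conv_lhs => rw [show Y t z = (Y t z + f z w • z₀) + -(f z w • z₀) by abel]
      rw [map_add, hXL _ (hWL _ (hYW z)), map_neg, map_smul, ← hv, zero_add]
    have hXw : X w = 0 := hXL _ (hWL _ hwW)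
    have hYw : Y t w = 0 := hYL _ hwL'
    have hYv : Y t v = γ • w := by
      have h1 : v - γ • e ∈ W := hLe v (hXr z₀)
      conv_lhs => rw [show v = (v - γ • e) + γ • e by abel]
      rw [map_add, hYL _ (hWL' _ h1), map_smul, hYe, zero_add]
    have hYY : ∀ z, Y t (Y t z) = 0 := fun z => hYL _ (hYr z)
    refine ⟨hYe, hwW, ⟨_, M.mul_mem (M.mul_mem (M.mul_mem hYM hXM) (M.inv_mem hYM)) (M.inv_mem hXM), fun z => ?_⟩⟩
    rw [mv_mul, mv_mul, mv_mul, mv_inv_of hXz hXX, mv_inv_of hYz hYY, hXz, hYz]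
    simp only [map_sub, map_add, hYY, hXX, hXY, hYX, map_neg, map_smul, hXw, hYw, hYv, smul_zero, neg_zero, sub_zero,
      add_zero, zero_add, smul_smul]
    module
  obtain ⟨-, h1W, hm1⟩ := key t₁ ht₁ hℓ₁
  obtain ⟨-, h2W, hm2⟩ := key t₂ ht₂ hℓ₂
  obtain ⟨-, -, hm12⟩ := key (t₁ + t₂) (by rw [map_add, ht₁, ht₂]) (by rw [add_mul, map_add, hℓ₁, hℓ₂, add_zero])
  set w₁ := mv g (t₁ • u₂) with hw₁
  set w₂ := mv g (t₂ • u₂) with hw₂
  rw [show mv g ((t₁ + t₂) • u₂) = w₁ + w₂ by rw [add_smul, mv_add]] at hm12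
  let Z : (ι → F) → (ι → F) →ₗ[F] ι → F := fun w =>
    (Herm.formH hherm w).smulRight v - (Herm.formH hherm v).smulRight w + (γ • Herm.formH hherm w).smulRight w
  have hZ : ∀ w z, Z w z = f z w • v - f z v • w + (γ * f z w) • w := fun w z => rfl
  have hWiso : ∀ a ∈ W, ∀ b ∈ W, f a b = 0 := fun a ha b hb => hLiso a (hWL a ha) b (hWL b hb)
  have hvL : v ∈ L := hXr z₀
  have hZZ : ∀ w ∈ W, ∀ w' ∈ W, ∀ z, Z w (Z w' z) = 0 := by
    intro w hw w' hw' z
    have h1 : f (Z w' z) w = 0 := by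
      rw [hZ, hherm.add_left, Herm.sub_left hherm, hherm.smul_left, hherm.smul_left, hherm.smul_left,
        hLiso v hvL w (hWL w hw), hWiso w' hw' w hw]
      ring
    have h2 : f (Z w' z) v = 0 := by
      rw [hZ, hherm.add_left, Herm.sub_left hherm, hherm.smul_left, hherm.smul_left, hherm.smul_left,
        hLiso v hvL v hvL, hLiso w' (hWL w' hw') v hvL]
      ring
    rw [hZ, h1, h2]; simp
  have hW12 := W.add_mem h1W h2W
  have hmA : Mem M fun z => Z (w₁ + w₂) z - Z w₁ z :=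
    (hm12.congr (B := fun z => Z (w₁ + w₂) z) fun z => (hZ _ z).symm).sub
      (hm1.congr (B := fun z => Z w₁ z) fun z => (hZ _ z).symm) (hZZ _ h1W _ h1W)
      fun z => by show Z (w₁ + w₂) (z - Z w₁ z) = _; rw [map_sub, hZZ _ hW12 _ h1W, sub_zero]
  have hmB : Mem M fun z => Z (w₁ + w₂) z - Z w₁ z - Z w₂ z :=
    hmA.sub (hm2.congr (B := fun z => Z w₂ z) fun z => (hZ _ z).symm) (hZZ _ h2W _ h2W)
      fun z => by
        show Z (w₁ + w₂) (z - Z w₂ z) - Z w₁ (z - Z w₂ z) = _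
        rw [map_sub, map_sub, hZZ _ hW12 _ h2W, hZZ _ h1W _ h2W, sub_zero, sub_zero]
  obtain ⟨c, hc, hcz⟩ := hmB
  refine ⟨u₂, ?_, ?_, t₁, t₂, ht₁, ht₂, ht₁0, ht₂s, γ, hγ0, hγσ, g⁻¹ * c * g,
    M.mul_mem (M.mul_mem (M.inv_mem hg) hc) hg, fun z => ?_⟩
  · rw [hu₂]; exact smul_ne_zero (smul_ne_zero hη0 hqf0) hu0
  · rw [hu₂, fK_smul_left, fK_smul_right, hu, mul_zero, mul_zero]
  have e1 : f (mv g z) w₁ = f z (t₁ • u₂) := hgf _ _
  have e2 : f (mv g z) w₂ = f z (t₂ • u₂) := hgf _ _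
  refine mv_inj g ?_
  rw [mv_mul, mv_mul, mv_mv_inv, hcz, mv_add g z, mv_smul, mv_add, mv_smul, mv_smul, ← hw₁, ← hw₂]
  beta_reduce
  rw [hZ, hZ, hZ,
    Herm.add_right hherm, e1, e2]
  module

end Cfsg.Agent.UFE
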