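/-
The unitary space over the extension field: partners, isotropic vectors, frames.
-/
import Cfsg.Agent.Lib.UnitaryFieldExt.Setup

set_option autoImplicit false
set_option linter.all false

namespace Cfsg.Agent.UFE

open scoped Matrix
open Matrix Cfsg.Agent.Transvec
open Cfsg.Agent.FieldMax (IsKLin IsSemi line mem_line self_mem_line finrank_line)

section frame

variable {κ : Type} [Fintype κ] [DecidableEq κ] {E : Type*} [Field E]
variable {τ : E ≃+* E} {g : (κ → E) → (κ → E) → E}

/-- An even non-degenerate subspace is spanned by isotropic vectors with pairwise products of trace zero. -/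
theorem frame_in [Finite E] (hg : Geo.IsUnitaryForm τ g) {η : E} (hη0 : η ≠ 0) (hη : τ η = -η) :
    ∀ (m : ℕ) (X : Submodule E (κ → E)), Herm.Nondeg hg X → Module.finrank E X = 2 * m →
      ∃ S : Set (κ → E), S ⊆ X ∧ X ≤ Submodule.span E S ∧
        (∀ a ∈ S, g a a = 0) ∧ ∀ a ∈ S, ∀ b ∈ S, τ (g a b) = -g a b := by
  intro m
  induction m with
  | zero =>
    intro X _ h
    exact ⟨∅, Set.empty_subset _, by rw [Submodule.finrank_eq_zero.1 h]; exact bot_le, by simp, by simp⟩
  | succ m ih =>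
    intro X hX h
    obtain ⟨e, he, he0, hee⟩ := Herm.exists_isotropic hg hX (by omega)
    obtain ⟨d, hd, hed, hdd⟩ := Herm.exists_partner hg hX he he0 hee
    obtain ⟨hP, hPd⟩ := Herm.nondeg_pair hg hee hdd hed
    have hle : Submodule.span E {e, d} ≤ X := Submodule.span_le.2 (by
      rintro v (rfl | rfl) <;> assumption)
    have hsum := Herm.finrank_inf_orth_add hg hP hle
    obtain ⟨S, hS, hXS, hiso, hanti⟩ :=
      ih (X ⊓ Herm.orth hg (Submodule.span E {e, d})) (Herm.nondeg_inf_orth hg hP hX hle) (by omega)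
    set d' := (-η) • d with hd'
    have hed' : g e d' = η := by rw [hd', Herm.smul_right hg, hed, map_neg, hη, neg_neg, mul_one]
    have hde' : g d' e = -η := by rw [hg.herm, hed', hη]
    have hdd' : g d' d' = 0 := by rw [hd', hg.smul_left, Herm.smul_right hg, hdd, mul_zero, mul_zero]
    have hperp : ∀ s ∈ S, g e s = 0 ∧ g d' s = 0 := fun s hs =>
      ⟨(hS hs).2 e (Submodule.subset_span (Set.mem_insert _ _)),
        (hS hs).2 d' (Submodule.smul_mem _ _ (Submodule.subset_span (Set.mem_insert_of_mem _ rfl)))⟩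
    refine ⟨insert e (insert d' S), ?_, ?_, ?_, ?_⟩
    · rintro v (rfl | rfl | hv)
      · exact he
      · exact X.smul_mem _ hd
      · exact (hS hv).1
    · intro x hx
      obtain ⟨u, hu, hxu⟩ := Herm.exists_proj hg hP x
      rw [show x = u + (x - u) by abel]
      refine Submodule.add_mem _ ?_ (Submodule.span_mono (fun v hv => Or.inr (Or.inr hv)) (hXS ⟨X.sub_mem hx (hle hu), hxu⟩))
      refine (Submodule.span_le.2 ?_ : Submodule.span E {e, d} ≤ _) hu
      rintro v (rfl | rfl)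
      · exact Submodule.subset_span (Or.inl rfl)
      · rw [SetLike.mem_coe, show v = (-η)⁻¹ • d' by rw [hd', smul_smul, inv_mul_cancel₀ (neg_ne_zero.2 hη0), one_smul]]
        exact Submodule.smul_mem _ _ (Submodule.subset_span (Or.inr (Or.inl rfl)))
    · rintro v (rfl | rfl | hv)
      exacts [hee, hdd', hiso v hv]
    · have hz : τ (0 : E) = -0 := by simp
      rintro a (rfl | rfl | ha) b (rfl | rfl | hb)
      · rw [hee]; exact hz
      · rw [hed', hη]
      · rw [(hperp b hb).1]; exact hz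
      · rw [hde', map_neg, hη]
      · rw [hdd']; exact hz
      · rw [(hperp b hb).2]; exact hz
      · rw [(Herm.f_eq_zero_comm hg).1 (hperp a ha).1]; exact hz
      · rw [(Herm.f_eq_zero_comm hg).1 (hperp a ha).2]; exact hz
      · exact hanti a ha b hb

end frame

variable {ι : Type} [Fintype ι] [DecidableEq ι] {F : Type*} [Field F]
variable {K : Type*} [Field K] [Algebra F K] [Module K (ι → F)] [IsScalarTower F K (ι → F)]
variable {σ : F ≃+* F} {f : (ι → F) → (ι → F) → F} {τ : K ≃+* K} {ℓ : Module.Dual F K}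
variable (hE : Ext σ f τ ℓ)
include hE

theorem exists_coords : ∃ e : (ι → F) ≃ₗ[K] (Fin (Module.finrank K (ι → F)) → K),
    Geo.IsUnitaryForm τ (fun x y => fK hE (e.symm x) (e.symm y)) := by
  haveI := finite_K hE
  haveI : Module.Finite K (ι → F) := Module.Finite.of_restrictScalars_finite F K (ι → F)
  refine ⟨(Module.finBasis K (ι → F)).equivFun, ?_⟩
  set e := (Module.finBasis K (ι → F)).equivFun
  refine
    { ne_refl := tau_ne hE
      involutive := hE.invol
      add_left := fun x y v => by simp only [map_add, fK_add_left]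
      smul_left := fun c x v => by simp only [map_smul, fK_smul_left]
      herm := fun v w => fK_herm hE _ _
      nondegenerate := fun v hv => ?_ }
  obtain ⟨x, hx⟩ := exists_fK_one hE (u := e.symm v) fun h => hv (by simpa using h)
  refine ⟨⟨e x, ?_⟩, ⟨e x, ?_⟩⟩
  · show fK hE (e.symm (e x)) (e.symm v) ≠ 0
    rw [LinearEquiv.symm_apply_apply, hx]; exact one_ne_zero
  · show fK hE (e.symm v) (e.symm (e x)) ≠ 0
    rw [LinearEquiv.symm_apply_apply, fK_herm, hx, map_one]; exact one_ne_zero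

theorem exists_partner {u : ι → F} (hu0 : u ≠ 0) (hu : fK hE u u = 0) :
    ∃ v, fK hE u v = 1 ∧ fK hE v v = 0 := by
  obtain ⟨y, hy⟩ := exists_fK_one hE hu0
  obtain ⟨b, hb⟩ := Herm.exists_trace (tau_ne hE) hE.invol (-fK hE y y) (by rw [map_neg, ← fK_herm])
  have huy : fK hE u y = 1 := by rw [fK_herm, hy, map_one]
  refine ⟨y + b • u, ?_, ?_⟩
  · rw [fK_add_right, fK_smul_right, hu, huy, mul_zero, add_zero]
  · simp only [fK_add_left, fK_add_right, fK_smul_left, fK_smul_right, hu, hy, huy, mul_zero, mul_one,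
      add_zero]
    linear_combination hb

/-- Isotropic vectors span. -/
theorem span_isotropic {u : ι → F} (hu0 : u ≠ 0) (hu : fK hE u u = 0) :
    Submodule.span K {v : ι → F | fK hE v v = 0} = ⊤ := by
  refine Submodule.eq_top_iff'.2 fun y => ?_
  obtain ⟨u', huu', hu'⟩ := exists_partner hE hu0 hu
  have hu'u : fK hE u' u = 1 := by rw [fK_herm, huu', map_one]
  set y0 := y - fK hE y u' • u - fK hE y u • u' with hy0
  have h1 : fK hE y0 u = 0 := by
    simp only [hy0, fK_sub_left, fK_smul_left, hu, hu'u, mul_zero, mul_one, sub_zero, sub_self]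
  have h2 : fK hE y0 u' = 0 := by
    simp only [hy0, fK_sub_left, fK_smul_left, huu', hu', mul_zero, mul_one, sub_zero, sub_self]
  obtain ⟨b, hb⟩ := Herm.exists_trace (tau_ne hE) hE.invol (-fK hE y0 y0) (by rw [map_neg, ← fK_herm])
  set S := Submodule.span K {v : ι → F | fK hE v v = 0}
  have hmem : u + b • u' + y0 ∈ S := Submodule.subset_span (by
    show fK hE _ _ = 0
    simp only [fK_add_left, fK_add_right, fK_smul_left, fK_smul_right, hu, hu', huu', hu'u, h1, h2,
      (fK_eq_zero_comm hE).1 h1, (fK_eq_zero_comm hE).1 h2, mul_zero, mul_one, add_zero, zero_add]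
    linear_combination hb)
  have hu1 : u ∈ S := Submodule.subset_span hu
  have hu1' : u' ∈ S := Submodule.subset_span hu'
  rw [show y = (u + b • u' + y0) - u - b • u' + fK hE y u' • u + fK hE y u • u' by rw [hy0]; abel]
  exact S.add_mem (S.add_mem (S.sub_mem (S.sub_mem hmem hu1) (S.smul_mem _ hu1')) (S.smul_mem _ hu1))
    (S.smul_mem _ hu1')

/-- An isotropic vector orthogonal to u and not to z. -/
theorem exists_aux [Finite F] (hd : Even (Module.finrank K (ι → F))) {u z : ι → F} (hu0 : u ≠ 0)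
    (hu : fK hE u u = 0) (hzu : fK hE z u = 0) (hz : z ∉ line K u) :
    ∃ v, fK hE v v = 0 ∧ fK hE u v = 0 ∧ fK hE z v ≠ 0 := by
  haveI := finite_K hE
  haveI : Finite K := Module.finite_of_finite F
  obtain ⟨e, hg⟩ := exists_coords hE
  set g := fun x y => fK hE (e.symm x) (e.symm y) with hgdef
  have hge : ∀ x y, g (e x) (e y) = fK hE x y := fun x y => by simp [hgdef]
  obtain ⟨u', huu', hu'⟩ := exists_partner hE hu0 hu
  obtain ⟨hP, hPd⟩ := Herm.nondeg_pair hg (e := e u) (d := e u') (by rw [hge, hu]) (by rw [hge, hu'])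
    (by rw [hge, huu'])
  set z' := z - fK hE z u' • u with hz'
  have hz'0 : z' ≠ 0 := fun h => hz (mem_line.2 ⟨_, (sub_eq_zero.1 h).symm⟩)
  have hz'u : fK hE z' u = 0 := by rw [hz', fK_sub_left, fK_smul_left, hzu, hu, mul_zero, sub_zero]
  have hz'u' : fK hE z' u' = 0 := by rw [hz', fK_sub_left, fK_smul_left, huu', mul_one, sub_self]
  set X := Herm.orth hg (Submodule.span K {e u, e u'}) with hXdef
  have hmem : e z' ∈ X := by
    intro w hw
    obtain ⟨a, b, rfl⟩ := Submodule.mem_span_pair.1 hw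
    rw [← map_smul, ← map_smul, ← map_add, hge, fK_add_left, fK_smul_left, fK_smul_left,
      (fK_eq_zero_comm hE).1 hz'u, (fK_eq_zero_comm hE).1 hz'u', mul_zero, mul_zero, add_zero]
  have hX2 : 2 ≤ Module.finrank K X := by
    have h1 := Herm.finrank_orth_add hg hP
    rw [hPd, Module.finrank_fin_fun] at h1
    have h2 : 0 < Module.finrank K X := by
      rw [Nat.pos_iff_ne_zero]
      intro h0
      have := hmem
      rw [← hXdef] at h1
      rw [Submodule.finrank_eq_zero.1 h0, Submodule.mem_bot] at this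
      exact hz'0 (by simpa using this)
    obtain ⟨k, hk⟩ := hd
    rw [← hXdef] at h1
    omega
  obtain ⟨v, hvX, hvv, hvz⟩ := Herm.exists_isotropic_not_orth hg (Herm.nondeg_orth hg hP) hX2 hmem
    (fun h => hz'0 (by simpa using h))
  refine ⟨e.symm v, hvv, ?_, fun h => hvz ?_⟩
  · have := hvX (e u) (Submodule.subset_span (Set.mem_insert _ _))
    simpa [hgdef] using this
  · have huv : fK hE u (e.symm v) = 0 := by
      have := hvX (e u) (Submodule.subset_span (Set.mem_insert _ _))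
      simpa [hgdef] using this
    show fK hE (e.symm v) (e.symm (e z')) = 0
    rw [LinearEquiv.symm_apply_apply, fK_eq_zero_comm, hz', fK_sub_left, fK_smul_left, huv, h, mul_zero, sub_zero]

/-- A spanning frame through a given isotropic vector. -/
theorem exists_frame [Finite F] (hd : Even (Module.finrank K (ι → F))) {u : ι → F} (hu0 : u ≠ 0)
    (hu : fK hE u u = 0) {η : K} (hη0 : η ≠ 0) (hη : τ η = -η) :
    ∃ S : Set (ι → F), u ∈ S ∧ Submodule.span K S = ⊤ ∧ (∀ a ∈ S, fK hE a a = 0) ∧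
      (∀ a ∈ S, ∀ b ∈ S, τ (fK hE a b) = -fK hE a b) ∧
      (∃ u' ∈ S, fK hE u u' = η) ∧
      (4 ≤ Module.finrank K (ι → F) → ∃ u' ∈ S, ∃ w ∈ S, ∃ w' ∈ S,
        fK hE u u' = η ∧ fK hE w w' = η ∧ fK hE u w = 0 ∧ fK hE u w' = 0 ∧ fK hE w u' = 0) := by
  haveI := finite_K hE
  haveI : Finite K := Module.finite_of_finite F
  obtain ⟨e, hg⟩ := exists_coords hE
  set g := fun x y => fK hE (e.symm x) (e.symm y) with hgdef
  have hge : ∀ x y, g (e x) (e y) = fK hE x y := fun x y => by simp [hgdef]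
  obtain ⟨u₁, huu₁, hu₁⟩ := exists_partner hE hu0 hu
  obtain ⟨hP, hPd⟩ := Herm.nondeg_pair hg (e := e u) (d := e u₁) (by rw [hge, hu]) (by rw [hge, hu₁])
    (by rw [hge, huu₁])
  set X := Herm.orth hg (Submodule.span K {e u, e u₁}) with hXdef
  have h1 : 2 + Module.finrank K X = Module.finrank K (ι → F) := by
    have h1 := Herm.finrank_orth_add hg hP
    rwa [hPd, ← hXdef, Module.finrank_fin_fun] at h1
  have hX : Herm.Nondeg hg X := Herm.nondeg_orth hg hP
  obtain ⟨k, hk⟩ := hd
  set u' := (-η) • u₁ with hu'def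
  have huu' : fK hE u u' = η := by rw [hu'def, fK_smul_right, huu₁, map_neg, hη, neg_neg, mul_one]
  have hu' : fK hE u' u' = 0 := by rw [hu'def, fK_smul_left, fK_smul_right, hu₁, mul_zero, mul_zero]
  have hz : τ (0 : K) = -0 := by simp
  have hperp : ∀ x, e x ∈ X → fK hE u x = 0 ∧ fK hE u' x = 0 := fun x hx => by
    refine ⟨by rw [← hge]; exact hx _ (Submodule.subset_span (Set.mem_insert _ _)), ?_⟩
    rw [hu'def, fK_smul_left, ← hge, hx _ (Submodule.subset_span (Set.mem_insert_of_mem _ rfl)), mul_zero]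
  have hspanP : ∀ (S : Set (ι → F)), u ∈ S → u' ∈ S → (∀ x, e x ∈ X → x ∈ Submodule.span K S) →
      Submodule.span K S = ⊤ := by
    intro S h1 h2 h3
    refine Submodule.eq_top_iff'.2 fun x => ?_
    obtain ⟨p, hp, hxp⟩ := Herm.exists_proj hg hP (e x)
    obtain ⟨a, b, hab⟩ := Submodule.mem_span_pair.1 hp
    have hp' : e.symm p = a • u + b • u₁ := by rw [← hab]; simp
    rw [show x = e.symm p + (x - e.symm p) by abel]
    refine Submodule.add_mem _ ?_ (h3 _ ?_)
    · rw [hp', show u₁ = (-η)⁻¹ • u' by rw [hu'def, smul_smul, inv_mul_cancel₀ (neg_ne_zero.2 hη0), one_smul]]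
      exact Submodule.add_mem _ (Submodule.smul_mem _ _ (Submodule.subset_span h1))
        (Submodule.smul_mem _ _ (Submodule.smul_mem _ _ (Submodule.subset_span h2)))
    · rw [map_sub, LinearEquiv.apply_symm_apply]; exact hxp
  have hbase : ∀ (S : Set (ι → F)), (∀ a ∈ S, fK hE a a = 0) →
      (∀ a ∈ S, ∀ b ∈ S, τ (fK hE a b) = -fK hE a b) → (∀ a ∈ S, e a ∈ X) →
      (∀ a ∈ insert u (insert u' S), fK hE a a = 0) ∧
      (∀ a ∈ insert u (insert u' S), ∀ b ∈ insert u (insert u' S), τ (fK hE a b) = -fK hE a b) := by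
    intro S hiso hanti hSX
    refine ⟨?_, ?_⟩
    · rintro v (rfl | rfl | hv)
      exacts [hu, hu', hiso v hv]
    rintro a (rfl | rfl | ha) b (rfl | rfl | hb)
    · rw [hu]; exact hz
    · rw [huu', hη]
    · rw [(hperp b (hSX b hb)).1]; exact hz
    · rw [fK_herm, huu', hη, map_neg, hη]
    · rw [hu']; exact hz
    · rw [(hperp b (hSX b hb)).2]; exact hz
    · rw [(fK_eq_zero_comm hE).1 (hperp a (hSX a ha)).1]; exact hz
    · rw [(fK_eq_zero_comm hE).1 (hperp a (hSX a ha)).2]; exact hz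
    · exact hanti a ha b hb
  by_cases h4 : 4 ≤ Module.finrank K (ι → F)
  swap
  · have hX0 : X = ⊥ := Submodule.finrank_eq_zero.1 (by omega)
    obtain ⟨hiso, hanti⟩ := hbase ∅ (by simp) (by simp) (by simp)
    refine ⟨_, Or.inl rfl, hspanP _ (Or.inl rfl) (Or.inr (Or.inl rfl)) (fun x hx => ?_), hiso, hanti,
      ⟨u', Or.inr (Or.inl rfl), huu'⟩, fun h => absurd h h4⟩
    rw [hX0, Submodule.mem_bot] at hx
    rw [show x = 0 by simpa using hx]
    exact Submodule.zero_mem _
  obtain ⟨v, hvX, hv0, hvv⟩ := Herm.exists_isotropic hg hX (by omega)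
  obtain ⟨v₁, hv₁X, hvv₁, hv₁⟩ := Herm.exists_partner hg hX hvX hv0 hvv
  obtain ⟨hQ, hQd⟩ := Herm.nondeg_pair hg hvv hv₁ hvv₁
  have hle : Submodule.span K {v, v₁} ≤ X := Submodule.span_le.2 (by
    rintro x (rfl | rfl) <;> assumption)
  have hsum := Herm.finrank_inf_orth_add hg hQ hle
  obtain ⟨S, hS, hXS, hSiso, hSanti⟩ := frame_in hg hη0 hη (k - 2) _ (Herm.nondeg_inf_orth hg hQ hX hle)
    (by omega)
  set v' := (-η) • v₁ with hv'def
  have hvv' : g v v' = η := by rw [hv'def, Herm.smul_right hg, hvv₁, map_neg, hη, neg_neg, mul_one]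
  have hv'v' : g v' v' = 0 := by rw [hv'def, hg.smul_left, Herm.smul_right hg, hv₁, mul_zero, mul_zero]
  have hperp' : ∀ s ∈ S, g v s = 0 ∧ g v' s = 0 := fun s hs =>
    ⟨(hS hs).2 v (Submodule.subset_span (Set.mem_insert _ _)),
      (hS hs).2 v' (Submodule.smul_mem _ _ (Submodule.subset_span (Set.mem_insert_of_mem _ rfl)))⟩
  set S' := e.symm '' (insert v (insert v' S))
  have hS'X : ∀ a ∈ S', e a ∈ X := by
    rintro _ ⟨a, ha, rfl⟩
    rw [LinearEquiv.apply_symm_apply]
    rcases ha with rfl | rfl | ha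
    exacts [hvX, X.smul_mem _ hv₁X, (hS ha).1]
  obtain ⟨hiso, hanti⟩ := hbase S' (by
    rintro _ ⟨a, ha, rfl⟩
    show g a a = 0
    rcases ha with rfl | rfl | ha
    exacts [hvv, hv'v', hSiso a ha]) (by
    rintro _ ⟨a, ha, rfl⟩ _ ⟨b, hb, rfl⟩
    show τ (g a b) = -g a b
    rcases ha with rfl | rfl | ha <;> rcases hb with rfl | rfl | hb
    · rw [hvv]; exact hz
    · rw [hvv', hη]
    · rw [(hperp' b hb).1]; exact hz
    · rw [hg.herm, hvv', hη, map_neg, hη]
    · rw [hv'v']; exact hz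
    · rw [(hperp' b hb).2]; exact hz
    · rw [(Herm.f_eq_zero_comm hg).1 (hperp' a ha).1]; exact hz
    · rw [(Herm.f_eq_zero_comm hg).1 (hperp' a ha).2]; exact hz
    · exact hSanti a ha b hb) hS'X
  have hmem : ∀ a ∈ insert v (insert v' S), e.symm a ∈ insert u (insert u' S') := fun a ha =>
    Or.inr (Or.inr ⟨a, ha, rfl⟩)
  refine ⟨_, Or.inl rfl, hspanP _ (Or.inl rfl) (Or.inr (Or.inl rfl)) (fun x hx => ?_), hiso, hanti,
    ⟨u', Or.inr (Or.inl rfl), huu'⟩,
    fun _ => ⟨u', Or.inr (Or.inl rfl), _, hmem v (Or.inl rfl), _, hmem v' (Or.inr (Or.inl rfl)), huu', hvv', ?_, ?_, ?_⟩⟩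
  · obtain ⟨p, hp, hxp⟩ := Herm.exists_proj hg hQ (e x)
    obtain ⟨a, b, hab⟩ := Submodule.mem_span_pair.1 hp
    rw [show x = e.symm p + e.symm (e x - p) by rw [map_sub, LinearEquiv.symm_apply_apply]; abel]
    set T' := Submodule.span K (insert u (insert u' S'))
    have h1 : e.symm v ∈ T' := Submodule.subset_span (hmem v (Or.inl rfl))
    have h2 : e.symm v₁ ∈ T' := by
      rw [show v₁ = (-η)⁻¹ • v' by rw [hv'def, smul_smul, inv_mul_cancel₀ (neg_ne_zero.2 hη0), one_smul], map_smul]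
      exact Submodule.smul_mem _ _ (Submodule.subset_span (hmem v' (Or.inr (Or.inl rfl))))
    refine T'.add_mem ?_ ?_
    · rw [← hab, map_add, map_smul, map_smul]
      exact T'.add_mem (T'.smul_mem _ h1) (T'.smul_mem _ h2)
    · have hle' : Submodule.span K S ≤ T'.comap e.symm.toLinearMap :=
        Submodule.span_le.2 fun a ha => Submodule.subset_span (hmem a (Or.inr (Or.inr ha)))
      exact hle' (hXS ⟨X.sub_mem hx (hle hp), hxp⟩)
  · exact (hperp _ (hS'X _ ⟨v, Or.inl rfl, rfl⟩)).1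
  · exact (hperp _ (hS'X _ ⟨v', Or.inr (Or.inl rfl), rfl⟩)).1
  · rw [fK_eq_zero_comm]; exact (hperp _ (hS'X _ ⟨v, Or.inl rfl, rfl⟩)).2

end Cfsg.Agent.UFE
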