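/-
The rational structure of a frame, and the symplectic group over the fixed field inside an overgroup.
-/
import Cfsg.Agent.Lib.UnitaryFieldExt.Coord
import Cfsg.Agent.Lib.UnitaryFieldExt.Commutator
import Cfsg.Agent.Lib.SympFieldExt.Main
import Cfsg.Agent.Lib.Transvec.HermSymp
import Cfsg.Agent.Lib.Transvec.HermConj

set_option autoImplicit false
set_option linter.all false

namespace Cfsg.Agent.UFE

open scoped Matrix
open Matrix Cfsg.Agent.Transvec
open Cfsg.Agent.Transvec.Herm (fixedField)
open Cfsg.Agent.FieldMax (IsKLin IsSemi line mem_line self_mem_line finrank_line line_eq smul_mem_line)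

variable {ι : Type} [Fintype ι] [DecidableEq ι] {F : Type*} [Field F]
variable {K : Type*} [Field K] [Algebra F K] [Module K (ι → F)] [IsScalarTower F K (ι → F)]
variable {σ : F ≃+* F} {f : (ι → F) → (ι → F) → F} {τ : K ≃+* K} {ℓ : Module.Dual F K}

/-- Combinations of members of a set with fixed coefficients. -/
def W0 (τ : K ≃+* K) (S : Set (ι → F)) : AddSubgroup (ι → F) :=
  AddSubgroup.closure {x | ∃ t : K, τ t = t ∧ ∃ e ∈ S, t • e = x}

theorem mem_W0 {S : Set (ι → F)} {e : ι → F} (he : e ∈ S) : e ∈ W0 τ S :=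
  AddSubgroup.subset_closure ⟨1, map_one τ, e, he, one_smul _ _⟩

theorem smul_mem_W0 {S : Set (ι → F)} {t : K} (ht : τ t = t) {x : ι → F} (hx : x ∈ W0 τ S) :
    t • x ∈ W0 τ S := by
  induction hx using AddSubgroup.closure_induction with
  | mem x hx =>
    obtain ⟨s, hs, e, he, rfl⟩ := hx
    exact AddSubgroup.subset_closure ⟨t * s, by rw [map_mul, ht, hs], e, he, (smul_smul t s e).symm⟩
  | zero => rw [smul_zero]; exact zero_mem _
  | add x y _ _ hx hy => rw [smul_add]; exact add_mem hx hy
  | neg x _ hx => rw [smul_neg]; exact neg_mem hx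

variable (hE : Ext σ f τ ℓ)
include hE

theorem smulF_mem_W0 {S : Set (ι → F)} {c : F} (hc : σ c = c) {x : ι → F} (hx : x ∈ W0 τ S) :
    c • x ∈ W0 τ S := by
  rw [← IsScalarTower.algebraMap_smul K c x]
  exact smul_mem_W0 (by rw [hE.ext_map, hc]) hx

section props

variable {S : Set (ι → F)} (hiso : ∀ a ∈ S, fK hE a a = 0)
  (hanti : ∀ a ∈ S, ∀ b ∈ S, τ (fK hE a b) = -fK hE a b)
include hanti

theorem anti_W0 {x : ι → F} (hx : x ∈ W0 τ S) : ∀ y ∈ W0 τ S, τ (fK hE x y) = -fK hE x y := by
  induction hx using AddSubgroup.closure_induction with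
  | mem x hx =>
    obtain ⟨s, hs, a, ha, rfl⟩ := hx
    intro y hy
    induction hy using AddSubgroup.closure_induction with
    | mem y hy =>
      obtain ⟨t, ht, b, hb, rfl⟩ := hy
      rw [fK_smul_left, fK_smul_right, map_mul, map_mul, hs, hE.invol, ht, hanti a ha b hb]; ring
    | zero => rw [fK_zero_right]; simp
    | add x y _ _ hx hy => rw [fK_add_right, map_add, hx, hy]; ring
    | neg x _ hx => rw [show -x = (-1 : K) • x by rw [neg_one_smul], fK_smul_right]; simp [hx]
  | zero => intro y hy; rw [fK_zero_left]; simp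
  | add x y _ _ hx hy => intro z hz; rw [fK_add_left, map_add, hx z hz, hy z hz]; ring
  | neg x _ hx => intro z hz; rw [show -x = (-1 : K) • x by rw [neg_one_smul], fK_smul_left]; simp [hx z hz]

include hiso in
theorem self_W0 {x : ι → F} (hx : x ∈ W0 τ S) : fK hE x x = 0 := by
  induction hx using AddSubgroup.closure_induction with
  | mem x hx =>
    obtain ⟨s, hs, a, ha, rfl⟩ := hx
    rw [fK_smul_left, fK_smul_right, hiso a ha, mul_zero, mul_zero]
  | zero => rw [fK_zero_left]
  | add x y hx' hy' hx hy =>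
    rw [fK_add_left, fK_add_right, fK_add_right, hx, hy, fK_herm hE x y, anti_W0 hE hanti hx' y hy']; ring
  | neg x _ hx => rw [show -x = (-1 : K) • x by rw [neg_one_smul], fK_smul_left, fK_smul_right, hx]; simp

theorem f_anti_W0 {x y : ι → F} (hx : x ∈ W0 τ S) (hy : y ∈ W0 τ S) : σ (f x y) = -f x y := by
  rw [← ell_fK_one hE, ell_anti hE (anti_W0 hE hanti hx y hy)]

end props

theorem span_W0 {S : Set (ι → F)} (hS : Submodule.span K S = ⊤) :
    Submodule.span F (W0 τ S : Set (ι → F)) = ⊤ := by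
  obtain ⟨θ, hθ⟩ := exists_theta hE
  set V := Submodule.span F (W0 τ S : Set (ι → F))
  have hK : ∀ (k : K) x, x ∈ V → k • x ∈ V := by
    intro k x hx
    induction hx using Submodule.span_induction with
    | mem x hx =>
      obtain ⟨a, b, ha, hb, rfl⟩ := coord hE hθ k
      rw [add_smul, smul_assoc]
      exact V.add_mem (Submodule.subset_span (smul_mem_W0 ha hx))
        (V.smul_mem _ (Submodule.subset_span (smul_mem_W0 hb hx)))
    | zero => rw [smul_zero]; exact V.zero_mem
    | add x y _ _ hx hy => rw [smul_add]; exact V.add_mem hx hy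
    | smul c x _ hx => rw [smul_comm]; exact V.smul_mem c hx
  refine Submodule.eq_top_iff'.2 fun x => ?_
  have hx : x ∈ Submodule.span K S := hS ▸ Submodule.mem_top
  induction hx using Submodule.span_induction with
  | mem x hx => exact Submodule.subset_span (mem_W0 hx)
  | zero => exact V.zero_mem
  | add x y _ _ hx hy => exact V.add_mem hx hy
  | smul c x _ hx => exact hK c x hx

/-- Coordinates for which a frame is rational. -/
theorem exists_rational [Finite F] {S : Set (ι → F)} (hiso : ∀ a ∈ S, fK hE a a = 0)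
    (hanti : ∀ a ∈ S, ∀ b ∈ S, τ (fK hE a b) = -fK hE a b) (hS : Submodule.span K S = ⊤) :
    ∃ P : GL ι F, ∀ x, mv P x ∈ W0 τ S ↔ RatV (fixedField σ) x := by
  classical
  obtain ⟨B, hBS, -, hBspan, hBind⟩ := exists_linearIndepOn_id_extension (t := (W0 τ S : Set (ι → F)))
    (linearIndepOn_empty F id) (Set.empty_subset _)
  let bs : Module.Basis B F (ι → F) := Module.Basis.mk hBind.linearIndependent (by
    simp only [id_eq, Subtype.range_coe_subtype, Set.setOf_mem_eq]
    exact (span_W0 hE hS).ge.trans (Submodule.span_le.2 hBspan))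
  haveI : Fintype B := FiniteDimensional.fintypeBasisIndex bs
  have hcard : Fintype.card B = Fintype.card ι := by
    rw [← Module.finrank_eq_card_basis bs, Module.finrank_fintype_fun_eq_card]
  let b := bs.reindex (Fintype.equivOfCardEq hcard)
  have hb : ∀ i, b i ∈ W0 τ S := fun i => by
    rw [Module.Basis.reindex_apply, Module.Basis.mk_apply]; exact hBS (Subtype.mem _)
  set A : Matrix ι ι F := Matrix.of fun i j => b j i with hA
  have hAmul : ∀ x, A *ᵥ x = ∑ j, x j • b j := fun x => by
    funext i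
    simp [hA, Matrix.mulVec, dotProduct, mul_comm]
  have hdet : A.det ≠ 0 := fun h => by
    obtain ⟨x, hx, hxA⟩ := Matrix.exists_mulVec_eq_zero_iff.2 h
    rw [hAmul] at hxA
    exact hx (funext (Fintype.linearIndependent_iff.1 b.linearIndependent x hxA))
  refine ⟨Matrix.GeneralLinearGroup.mkOfDetNeZero A hdet, fun x => ?_⟩
  show A *ᵥ x ∈ W0 τ S ↔ _
  rw [hAmul]
  refine ⟨fun hx j => ?_, fun hx => AddSubgroup.sum_mem _ fun j _ => smulF_mem_W0 hE (hx j) (hb j)⟩
  show σ (x j) = x j
  set v : ι → F := ∑ j, (σ (x j) - x j) • b j with hv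
  have hkey : ∀ k, f v (b k) = 0 := by
    intro k
    have e1 := f_anti_W0 hE hanti hx (hb k)
    rw [← Herm.formH_apply hE.herm, map_sum, map_sum] at e1
    rw [hv, ← Herm.formH_apply hE.herm, map_sum]
    simp only [map_smul, smul_eq_mul, map_mul, Herm.formH_apply hE.herm, hE.herm.smul_left, f_anti_W0 hE hanti (hb _) (hb k),
      mul_neg, Finset.sum_neg_distrib, neg_inj] at e1
    simp only [map_smul, smul_eq_mul, Herm.formH_apply hE.herm, hE.herm.smul_left, sub_mul, Finset.sum_sub_distrib, e1, sub_self]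
  have hv0 : v = 0 := by
    by_contra hne
    obtain ⟨y, hy⟩ := (hE.herm.nondegenerate v hne).2
    refine hy ?_
    rw [← b.sum_repr y, hE.herm.herm, ← Herm.formH_apply hE.herm, map_sum, Finset.sum_eq_zero (fun k _ => ?_), map_zero]
    rw [map_smul, Herm.formH_apply hE.herm, hE.herm.herm, hkey, map_zero, smul_zero]
  exact sub_eq_zero.1 (Fintype.linearIndependent_iff.1 b.linearIndependent _ hv0 j)

/-- A small unipotent map is not semilinear. -/
theorem not_isSemi_rank_two [Nonempty ι] (h3 : 3 ≤ Module.finrank F K)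
    (hn : Module.finrank F K + 3 ≤ Fintype.card ι) {a b : ι → F} (hab : ∀ c : F, b ≠ c • a) (ha : a ≠ 0)
    {γ : F} (hγ : γ ≠ 0) {g : GL ι F} (hg : ∀ z, mv g z = z + γ • (f z a • b + f z b • a)) : ¬ IsSemi K g := by
  intro hsemi
  let Z : (ι → F) →ₗ[F] ι → F := γ • ((Herm.formH hE.herm a).smulRight b + (Herm.formH hE.herm b).smulRight a)
  have hZ : ∀ z, Z z = γ • (f z a • b + f z b • a) := fun z => rfl
  set U := Submodule.span F ({a, b} : Set (ι → F)) with hU
  have hUd : Module.finrank F U ≤ 2 := by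
    have h := finrank_range_le_card (R := F) ![a, b]
    rw [show Set.range ![a, b] = ({a, b} : Set (ι → F)) by simp [Matrix.range_cons, Set.pair_comm],
      Fintype.card_fin] at h
    exact h
  have hr : LinearMap.range Z ≤ U := by
    rintro _ ⟨z, rfl⟩
    rw [hZ]
    exact U.smul_mem _ (U.add_mem (U.smul_mem _ (Submodule.subset_span (Or.inr rfl)))
      (U.smul_mem _ (Submodule.subset_span (Or.inl rfl))))
  have hlin : ∀ (k : K) v, Z (k • v) = k • Z v := by
    intro k v
    let Φ : (ι → F) →ₗ[F] U × U :=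
      (Z.codRestrict U fun z => hr ⟨z, rfl⟩).prod
        ((Z.comp ((DistribSMul.toLinearMap F (ι → F) k))).codRestrict U fun z => hr ⟨_, rfl⟩)
    obtain ⟨z₀, hz₀, hz₀0⟩ := (LinearMap.ker Φ).ne_bot_iff.1 (fun h => by
      have h1 := LinearMap.finrank_range_add_finrank_ker Φ
      have h2 := Submodule.finrank_le (LinearMap.range Φ)
      rw [Module.finrank_prod] at h2
      rw [h, finrank_bot, Module.finrank_fintype_fun_eq_card] at h1
      omega)
    have hZ0 : Z z₀ = 0 := congrArg (fun p : U × U => (p.1 : ι → F)) (LinearMap.mem_ker.1 hz₀)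
    have hZk : Z (k • z₀) = 0 := congrArg (fun p : U × U => (p.2 : ι → F)) (LinearMap.mem_ker.1 hz₀)
    obtain ⟨k', hk'⟩ := hsemi k
    have e := hk' z₀
    rw [hg, hg, ← hZ, ← hZ, hZ0, hZk, add_zero, add_zero] at e
    have hk : k' = k := (smul_left_injective K hz₀0 e).symm
    have e2 := hk' v
    rw [hk, hg, hg, ← hZ, ← hZ, smul_add] at e2
    exact add_left_cancel e2
  obtain ⟨z, hz⟩ : ∃ z, Z z ≠ 0 := by
    obtain ⟨φ, hφa, hφb⟩ := Herm.exists_dual_pair hE.herm (u := a) (u' := b) hab ha 1 0
    obtain ⟨w, hw⟩ := Herm.exists_eq_f hE.herm φ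
    have h1 : f w a = 1 := by rw [hE.herm.herm, ← hw, hφa, map_one]
    have h2 : f w b = 0 := by rw [hE.herm.herm, ← hw, hφb, map_zero]
    refine ⟨w, ?_⟩
    rw [hZ, h1, h2, one_smul, zero_smul, add_zero]
    exact smul_ne_zero hγ fun h => hab 0 (by rw [h, zero_smul])
  have hle : line K (Z z) ≤ U := fun x hx => by
    obtain ⟨k, rfl⟩ := mem_line.1 hx
    rw [← hlin]; exact hr ⟨_, rfl⟩
  have := Submodule.finrank_mono hle
  rw [finrank_line hz] at this
  omega

end Cfsg.Agent.UFE
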