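/-
Fixed field scalars on a rational structure, and the symplectic group over the fixed field in an overgroup.
-/
import Cfsg.Agent.Lib.UnitaryFieldExt.Rational

set_option autoImplicit false
set_option linter.all false

namespace Cfsg.Agent.UFE

open scoped Matrix
open Matrix Cfsg.Agent.Transvec
open Cfsg.Agent.Transvec.Herm (fixedField)
open Cfsg.Agent.FieldMax (IsKLin IsSemi line mem_line self_mem_line finrank_line line_eq smul_mem_line)

section

variable {ι : Type} [Fintype ι] [DecidableEq ι] {F : Type*} [Field F] {F₀ : Subfield F}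

theorem mapMat_mulVec (A : Matrix ι ι F₀) (x : ι → F₀) : A.map (F₀.subtype) *ᵥ up x = up (A *ᵥ x) := by
  funext i
  show _ = ((∑ j, A i j * x j : F₀) : F)
  simp [Matrix.mulVec, dotProduct, up]

theorem ext_up {M N : Matrix ι ι F} (h : ∀ x : ι → F₀, M *ᵥ up x = N *ᵥ up x) : M = N :=
  Matrix.ext_of_mulVec_single fun i => by rw [← up_single (F₀ := F₀) i]; exact h _

/-- A map preserving a unitary form on rational vectors preserves it. -/
theorem preserving_of_up {σ : F ≃+* F} {f : (ι → F) → (ι → F) → F} (hf : Geo.IsUnitaryForm σ f) {g : GL ι F}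
    (h : ∀ x y : ι → F₀, f (mv g (up x)) (mv g (up y)) = f (up x) (up y)) :
    g ∈ preserving (Units.coeHom (Matrix ι ι F)) f := by
  intro x y
  show f (mv g x) (mv g y) = f x y
  have h1 : ∀ (x : ι → F) (y₀ : ι → F₀), f (mv g x) (mv g (up y₀)) = f x (up y₀) := by
    intro x y₀
    have e : (Herm.formH hf (mv g (up y₀))).comp (mvLin g) = Herm.formH hf (up y₀) :=
      (Pi.basisFun F ι).ext fun i => by
        rw [Pi.basisFun_apply, LinearMap.comp_apply, Matrix.toLin'_apply, ← up_single (F₀ := F₀) i]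
        exact h _ _
    have := LinearMap.congr_fun e x
    rw [LinearMap.comp_apply, Matrix.toLin'_apply] at this
    exact this
  have e : (Herm.formH hf (mv g x)).comp (mvLin g) = Herm.formH hf x :=
    (Pi.basisFun F ι).ext fun i => by
      rw [Pi.basisFun_apply, LinearMap.comp_apply, Matrix.toLin'_apply, ← up_single (F₀ := F₀) i,
        Herm.formH_apply hf, Herm.formH_apply hf, hf.herm]
      show σ (f (mv g x) (mv g (up _))) = _
      rw [h1, ← hf.herm]
  have := LinearMap.congr_fun e y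
  rw [LinearMap.comp_apply, Matrix.toLin'_apply, Herm.formH_apply hf, Herm.formH_apply hf] at this
  rw [hf.herm, hf.herm x]
  exact congrArg σ this

end

variable {ι : Type} [Fintype ι] [DecidableEq ι] {F : Type*} [Field F] [Fintype F]
variable {K : Type*} [Field K] [Algebra F K] [Module K (ι → F)] [IsScalarTower F K (ι → F)]
variable {σ : F ≃+* F} {f : (ι → F) → (ι → F) → F} {τ : K ≃+* K} {ℓ : Module.Dual F K}
variable (hE : Ext σ f τ ℓ) {S : Set (ι → F)} {P : GL ι F}
  (hP : ∀ x, mv P x ∈ W0 τ S ↔ RatV (fixedField σ) x)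
include hE hP

/-- The matrix of a fixed scalar. -/
theorem exists_scalar_matrix {k : K} (hk : τ k = k) :
    ∃ A : Matrix ι ι (fixedField σ), ∀ x : ι → fixedField σ, mv P (up (A *ᵥ x)) = k • mv P (up x) := by
  have hcol : ∀ j, RatV (fixedField σ) (mv P⁻¹ (k • mv P (Pi.single j 1))) := fun j => by
    rw [← hP, mv_mv_inv]
    exact smul_mem_W0 hk ((hP _).2 (ratV_single j (fixedField σ).one_mem))
  let A : Matrix ι ι (fixedField σ) := Matrix.of fun i j => ⟨_, hcol j i⟩
  refine ⟨A, fun x => ?_⟩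
  have e : (mvLin P).comp (Matrix.toLin' (A.map (fixedField σ).subtype)) =
      (DistribSMul.toLinearMap F (ι → F) k).comp (mvLin P) := by
    refine (Pi.basisFun F ι).ext fun j => ?_
    rw [Pi.basisFun_apply, LinearMap.comp_apply, LinearMap.comp_apply, Matrix.toLin'_apply, Matrix.toLin'_apply,
      Matrix.toLin'_apply, DistribSMul.toLinearMap_apply]
    show mv P _ = k • mv P _
    rw [show A.map (fixedField σ).subtype *ᵥ Pi.single j 1 = mv P⁻¹ (k • mv P (Pi.single j 1)) from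
      funext fun i => by simp [A, Matrix.mulVec_single], mv_mv_inv]
  have := LinearMap.congr_fun e (up x)
  rw [LinearMap.comp_apply, LinearMap.comp_apply, Matrix.toLin'_apply, Matrix.toLin'_apply, Matrix.toLin'_apply,
    mapMat_mulVec, DistribSMul.toLinearMap_apply] at this
  exact this

omit hE hP in
variable (τ P σ) in
/-- Matrices of fixed scalars. -/
def scalarMats : Subalgebra (fixedField σ) (Matrix ι ι (fixedField σ)) → Prop := fun R =>
  ∀ A, A ∈ R ↔ ∃ k : K, τ k = k ∧ ∀ x : ι → fixedField σ, mv P (up (A *ᵥ x)) = k • mv P (up x)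

theorem exists_scalarMats : ∃ R, scalarMats σ τ P R := by
  refine ⟨
    { carrier := {A | ∃ k : K, τ k = k ∧ ∀ x : ι → fixedField σ, mv P (up (A *ᵥ x)) = k • mv P (up x)}
      mul_mem' := ?_, add_mem' := ?_, algebraMap_mem' := ?_ }, fun A => Iff.rfl⟩
  · rintro A B ⟨a, ha, hA⟩ ⟨b, hb, hB⟩
    exact ⟨a * b, by rw [map_mul, ha, hb], fun x => by rw [← Matrix.mulVec_mulVec, hA, hB, smul_smul]⟩
  · rintro A B ⟨a, ha, hA⟩ ⟨b, hb, hB⟩
    exact ⟨a + b, by rw [map_add, ha, hb], fun x => by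
      rw [Matrix.add_mulVec, up_add, mv_add, hA, hB, add_smul]⟩
  · intro c
    refine ⟨algebraMap F K (c : F), by rw [hE.ext_map, c.2], fun x => ?_⟩
    rw [IsScalarTower.algebraMap_smul, Algebra.algebraMap_eq_smul_one, Matrix.smul_mulVec, Matrix.one_mulVec,
      up_smul, mv_smul]

theorem scalarMats_field [Nonempty ι] {R} (hR : scalarMats σ τ P R) :
    Geo.IsFieldSubalgebra (Module.finrank F K) R := by
  classical
  haveI := finite_K hE
  haveI : Finite K := Module.finite_of_finite F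
  have hinj : ∀ {A B : Matrix ι ι (fixedField σ)},
      (∀ x, mv P (up (A *ᵥ x)) = mv P (up (B *ᵥ x))) → A = B := fun h =>
    Matrix.ext_of_mulVec_single fun i => up_injective (mv_inj P (h _))
  have huniq : ∀ {a b : K}, (∀ x : ι → fixedField σ, a • mv P (up x) = b • mv P (up x)) → a = b := by
    intro a b h
    obtain ⟨i⟩ := ‹Nonempty ι›
    refine smul_left_injective K (?_ : mv P (up (Pi.single i 1)) ≠ 0) (h _)
    intro e
    have e2 := mv_inj P (e.trans (mv_zero P).symm)
    rw [up_single] at e2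
    simpa using congrFun e2 i
  refine ⟨fun A hA B hB => ?_, fun A hA hA0 => ?_, ?_⟩
  · obtain ⟨a, -, ha⟩ := (hR A).1 hA
    obtain ⟨b, -, hb⟩ := (hR B).1 hB
    refine hinj fun x => ?_
    rw [← Matrix.mulVec_mulVec, ← Matrix.mulVec_mulVec, ha, hb, hb, ha, smul_comm]
  · obtain ⟨a, ha', ha⟩ := (hR A).1 hA
    have ha0 : a ≠ 0 := fun h => hA0 (hinj fun x => by
      rw [ha, h, zero_smul, Matrix.zero_mulVec, up_zero, mv_zero])
    obtain ⟨B, hB⟩ := exists_scalar_matrix hE hP (k := a⁻¹) (by rw [map_inv₀, ha'])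
    refine ⟨B, (hR B).2 ⟨a⁻¹, by rw [map_inv₀, ha'], hB⟩, hinj fun x => ?_⟩
    rw [← Matrix.mulVec_mulVec, ha, hB, smul_smul, mul_inv_cancel₀ ha0, one_smul, Matrix.one_mulVec]
  · let e : R → fixedField τ := fun A => ⟨((hR A.1).1 A.2).choose, ((hR A.1).1 A.2).choose_spec.1⟩
    have he : ∀ A : R, ∀ x, mv P (up (A.1 *ᵥ x)) = (e A : K) • mv P (up x) := fun A =>
      ((hR A.1).1 A.2).choose_spec.2
    have hbij : Function.Bijective e := by
      refine ⟨fun A B h => Subtype.ext (hinj fun x => by rw [he, he, h]), fun k => ?_⟩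
      obtain ⟨A, hA⟩ := exists_scalar_matrix hE hP (k := (k : K)) k.2
      refine ⟨⟨A, (hR A).2 ⟨k, k.2, hA⟩⟩, Subtype.ext (huniq fun x => ?_)⟩
      rw [← he]; exact hA x
    have h1 := Nat.card_eq_of_bijective e hbij
    have h2 := Herm.card_eq_sq (tau_ne hE) hE.invol
    have h3 := Herm.card_eq_sq hE.herm.ne_refl hE.herm.involutive
    rw [Module.natCard_eq_pow_finrank (K := F) (V := K), h3, ← pow_mul, mul_comm, pow_mul, ← h1,
      Module.natCard_eq_pow_finrank (K := fixedField σ) (V := R)] at h2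
    exact (Nat.pow_right_injective (Finite.one_lt_card : 1 < Nat.card (fixedField σ))
      (Nat.pow_left_injective two_ne_zero h2)).symm

omit [Fintype F] in
/-- A matrix normalising the scalars gives a semilinear map. -/
theorem isSemi_of_normalizes [Finite F] {R} (hR : scalarMats σ τ P R) (hS : Submodule.span K S = ⊤)
    {A : GL ι (fixedField σ)} (hA : A ∈ Geo.subalgebraNormalizer R) :
    IsSemi K (P * Matrix.GeneralLinearGroup.map ((fixedField σ).subtype : fixedField σ →+* F) A * P⁻¹) := by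
  haveI : Fintype F := Fintype.ofFinite F
  set g := P * Matrix.GeneralLinearGroup.map ((fixedField σ).subtype : fixedField σ →+* F) A * P⁻¹ with hg
  have hgP : ∀ x : ι → fixedField σ, mv g (mv P (up x)) = mv P (up (mv A x)) := fun x => by
    rw [hg, mv_mul, mv_mul, mv_inv_mv, mv_map]
  let V : Submodule F K :=
    { carrier := {k | ∃ k' : K, ∀ v, mv g (k • v) = k' • mv g v}
      add_mem' := by
        rintro a b ⟨a', ha⟩ ⟨b', hb⟩
        exact ⟨a' + b', fun v => by rw [add_smul, mv_add, ha, hb, add_smul]⟩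
      zero_mem' := ⟨0, fun v => by rw [zero_smul, zero_smul, mv_zero]⟩
      smul_mem' := by
        rintro c a ⟨a', ha⟩
        exact ⟨c • a', fun v => by rw [smul_assoc, mv_smul, ha, smul_assoc]⟩ }
  intro k
  suffices k ∈ V from this
  refine (Submodule.span_le.2 (fun t ht => ?_) : Submodule.span F {t : K | τ t = t} ≤ V)
    (span_fixed hE ▸ Submodule.mem_top)
  obtain ⟨B, hB⟩ := exists_scalar_matrix hE hP ht
  obtain ⟨k', -, hk'⟩ := (hR _).1 ((hA B).1 ((hR B).2 ⟨t, ht, hB⟩))
  refine ⟨k', fun v => ?_⟩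
  have hrat : ∀ x : ι → fixedField σ, mv g (t • mv P (up x)) = k' • mv g (mv P (up x)) := fun x => by
    rw [← hB, hgP, hgP, ← hk']
    simp [mv, Matrix.mulVec_mulVec, mul_assoc]
  have hv : v ∈ Submodule.span F (W0 τ S : Set (ι → F)) := span_W0 hE hS ▸ Submodule.mem_top
  induction hv using Submodule.span_induction with
  | mem x hx =>
    obtain ⟨x₀, hx₀⟩ := exists_up ((hP _).1 (by rwa [mv_mv_inv] : mv P (mv P⁻¹ x) ∈ W0 τ S))
    rw [show x = mv P (up x₀) by rw [← hx₀, mv_mv_inv]]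
    exact hrat x₀
  | zero => simp [mv_zero]
  | add x y _ _ hx hy => rw [smul_add, mv_add, hx, hy, mv_add, smul_add]
  | smul c x _ hx => rw [smul_comm, mv_smul, hx, mv_smul, smul_comm]

/-- An overgroup with a non-semilinear rational member contains all rational transvections. -/
theorem rational_transvections [Nonempty ι] (hn : 6 ≤ Fintype.card ι)
    (hiso : ∀ a ∈ S, fK hE a a = 0) (hanti : ∀ a ∈ S, ∀ b ∈ S, τ (fK hE a b) = -fK hE a b)
    (hS : Submodule.span K S = ⊤) {M : Subgroup (GL ι F)}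
    (hNM : ∀ g, IsSemi K g → g ∈ preserving (Units.coeHom (Matrix ι ι F)) f ⊓ Geo.specialLinear ι F → g ∈ M)
    (hMS : M ≤ preserving (Units.coeHom (Matrix ι ι F)) f ⊓ Geo.specialLinear ι F)
    {g : GL ι F} (hg : g ∈ M) (hgN : ¬ IsSemi K g) (hgW : ∀ x ∈ W0 τ S, mv g x ∈ W0 τ S)
    (v : ι → F) (hv : RatV (fixedField σ) v)
    (hvv : f (mv P v) (mv P v) = 0) (c : F) (hc : σ c = -c) :
    P * Herm.htv (Herm.pull_isUnitary hE.herm P) v hvv c * P⁻¹ ∈ M := by
  classical
  set F₀ := fixedField σ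
  set f' := fun u v => f (mv P u) (mv P v) with hf'
  have hf : Geo.IsUnitaryForm σ f' := Herm.pull_isUnitary hE.herm P
  obtain ⟨ζ, hζ0, hζ⟩ := exists_eta hE
  have hW : ∀ u : ι → F, RatV F₀ u → mv P u ∈ W0 τ S := fun u hu => (hP u).2 hu
  have hG : ∀ u w : ι → F, RatV F₀ u → RatV F₀ w → ζ * f' u w ∈ F₀ := fun u w hu hw => by
    show σ (ζ * f (mv P u) (mv P w)) = _
    rw [map_mul, hζ, f_anti_W0 hE hanti (hW u hu) (hW w hw)]; ring
  have halt : ∀ u : ι → F, RatV F₀ u → f' u u = 0 := fun u hu => by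
    show f (mv P u) (mv P u) = 0
    rw [← ell_fK_one hE, self_W0 hE hiso hanti (hW u hu), map_zero]
  have hF₀ : ∀ a, a ∈ F₀ ↔ σ a = a := fun a => Iff.rfl
  have hf₀ := Herm.isSymplectic_rat hf hF₀ hζ0 hζ hG halt
  set f₀ := fun u w : ι → F₀ => (⟨ζ * f' (up u) (up w), hG _ _ (ratV_up u) (ratV_up w)⟩ : F₀) with hf₀def
  obtain ⟨R, hR⟩ := exists_scalarMats hE hP
  have hRf := scalarMats_field hE hP hR
  haveI : Fintype F₀ := Fintype.ofFinite _
  obtain ⟨ℓ₀, hℓ₀, hsq⟩ := SympFieldExt.exists_functional hRf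
  have hX : SympFieldExt.Ext f₀ (Module.finrank F K) R ℓ₀ := by
    refine ⟨hf₀, hRf, fun A hA x y => Subtype.ext ?_, fun A hA x => Subtype.ext ?_, hℓ₀⟩
    · obtain ⟨k, hk, hAk⟩ := (hR A).1 hA
      show ζ * f (mv P (up (A *ᵥ x))) (mv P (up y)) = ζ * f (mv P (up x)) (mv P (up (A *ᵥ y)))
      rw [hAk, hAk, hE.adj, hk]
    · obtain ⟨k, hk, hAk⟩ := (hR A).1 hA
      show ζ * f (mv P (up (A *ᵥ x))) (mv P (up x)) = ((0 : F₀) : F)
      rw [hAk, ← ell_fK hE, self_W0 hE hiso hanti (hW _ (ratV_up x)), mul_zero, map_zero, mul_zero,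
        ZeroMemClass.coe_zero]
  let Φ : GL ι F₀ →* GL ι F :=
    (MulAut.conj P).toMonoidHom.comp (Matrix.GeneralLinearGroup.map (F₀.subtype : F₀ →+* F))
  have hΦ : ∀ A, Φ A = P * Matrix.GeneralLinearGroup.map (F₀.subtype : F₀ →+* F) A * P⁻¹ := fun A => rfl
  set Sp := preserving (Units.coeHom (Matrix ι ι F₀)) f₀ with hSp
  set M0 := M.comap Φ ⊓ Sp with hM0
  have hΦS : ∀ A ∈ Sp, Φ A ∈ preserving (Units.coeHom (Matrix ι ι F)) f ⊓ Geo.specialLinear ι F := by
    intro A hA
    have h1 : Matrix.GeneralLinearGroup.map (F₀.subtype : F₀ →+* F) A ∈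
        preserving (Units.coeHom (Matrix ι ι F)) f' ⊓ Geo.specialLinear ι F := by
      refine ⟨preserving_of_up (F₀ := F₀) hf fun x y => ?_, ?_⟩
      · rw [mv_map, mv_map]
        have h := congrArg Subtype.val (hA x y)
        exact mul_left_cancel₀ hζ0 h
      · have hdet : A ∈ Geo.specialLinear ι F₀ :=
          Cfsg.Agent.Transvec.preserving_le hf₀ (fun v c => stv_mem_specialLinear hf₀ v c) hA
        replace hdet : Matrix.GeneralLinearGroup.det A = 1 := hdet
        show Matrix.GeneralLinearGroup.det (Matrix.GeneralLinearGroup.map (F₀.subtype : F₀ →+* F) A) = 1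
        ext
        have e := congrArg (fun d : F₀ˣ => ((d : F₀) : F)) hdet
        simp only [Matrix.GeneralLinearGroup.val_det_apply, Units.val_one, OneMemClass.coe_one] at e ⊢
        rw [← e]
        exact (RingHom.map_det (F₀.subtype : F₀ →+* F) _).symm
    exact (Herm.map_su (f := f) P).le ⟨_, h1, rfl⟩
  have hHM : Geo.subalgebraNormalizer R ⊓ Sp ≤ M0 := fun A hA =>
    ⟨hNM _ (isSemi_of_normalizes hE hP hR hS hA.1) (hΦS A hA.2), hA.2⟩
  obtain ⟨A, hA⟩ : ∃ A : GL ι F₀, Φ A = g := by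
    set g' := P⁻¹ * g * P with hg'
    have hcol : ∀ j, RatV F₀ (mv g' (Pi.single j 1)) := fun j => by
      rw [hg', mv_mul, mv_mul, ← hP, mv_mv_inv]
      exact hgW _ (hW _ (ratV_single j F₀.one_mem))
    let A : Matrix ι ι F₀ := Matrix.of fun i j => ⟨(g' : Matrix ι ι F) i j, by
      have := hcol j i
      simpa [mv, Matrix.mulVec_single] using this⟩
    have hAg : A.map F₀.subtype = (g' : Matrix ι ι F) := Matrix.ext fun i j => rfl
    have hdet : A.det ≠ 0 := fun h => by
      have := congrArg F₀.subtype h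
      rw [RingHom.map_det, map_zero, RingHom.mapMatrix_apply, hAg] at this
      exact Matrix.GeneralLinearGroup.det_ne_zero g' this
    refine ⟨Matrix.GeneralLinearGroup.mkOfDetNeZero A hdet, ?_⟩
    rw [hΦ, show Matrix.GeneralLinearGroup.map (F₀.subtype : F₀ →+* F) (Matrix.GeneralLinearGroup.mkOfDetNeZero A hdet) = g'
      from Units.ext hAg, hg']
    group
  have hAM : A ∈ M0 := by
    refine ⟨show Φ A ∈ M by rw [hA]; exact hg, fun x y => Subtype.ext ?_⟩
    show ζ * f (mv P (up (mv A x))) (mv P (up (mv A y))) = ζ * f (mv P (up x)) (mv P (up y))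
    have e : ∀ x, mv P (up (mv A x)) = mv g (mv P (up x)) := fun x => by
      rw [← hA, hΦ, mv_mul, mv_mul, mv_inv_mv, mv_map]
    rw [e, e]
    exact congrArg _ ((hMS hg).1 _ _)
  have hmax := SympFieldExt.normalizer_maximal hX hE.prime hsq
    (by rw [Module.finrank_fintype_fun_eq_card]; exact hn)
  rcases hmax.2 M0 hHM inf_le_right with h | h
  · exact absurd (by rw [← hA]; exact isSemi_of_normalizes hE hP hR hS (h ▸ hAM).1) hgN
  obtain ⟨v₀, rfl⟩ := exists_up hv
  have hcz : c / ζ ∈ F₀ := by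
    show σ (c / ζ) = c / ζ
    rw [map_div₀, hc, hζ, neg_div_neg_eq]
  have hmem : stv hf₀ v₀ ⟨c / ζ, hcz⟩ ∈ M0 := h ▸ stv_mem hf₀ _ _
  have hm : Φ (stv hf₀ v₀ ⟨c / ζ, hcz⟩) ∈ M := hmem.1
  rw [hΦ, Herm.map_stv_eq_htv hf hG halt hf₀ v₀ ⟨c / ζ, hcz⟩] at hm
  simp only [div_mul_cancel₀ _ hζ0] at hm
  exact hm

end Cfsg.Agent.UFE
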