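/-
Transitivity on isotropic lines over the extension, a moved line, a conjugate line which is not orthogonal.
-/
import Cfsg.Agent.Lib.UnitaryFieldExt.Count
import Cfsg.Agent.Lib.UnitaryFieldExt.Coord

set_option autoImplicit false
set_option linter.all false

namespace Cfsg.Agent.UFE

open scoped Matrix
open Matrix Cfsg.Agent.Transvec
open Cfsg.Agent.FieldMax (IsKLin IsSemi line mem_line self_mem_line finrank_line line_eq smul_mem_line)

variable {ι : Type} [Fintype ι] [DecidableEq ι] {F : Type*} [Field F] [Fintype F]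
variable {K : Type*} [Field K] [Algebra F K] [Module K (ι → F)] [IsScalarTower F K (ι → F)]
variable {σ : F ≃+* F} {f : (ι → F) → (ι → F) → F} {τ : K ≃+* K} {ℓ : Module.Dual F K}
variable (hE : Ext σ f τ ℓ)
include hE

theorem exists_anti_K : ∃ η : K, η ≠ 0 ∧ τ η = -η := Herm.exists_anti (tau_ne hE) hE.invol

variable {M : Subgroup (GL ι F)}
  (hNM : ∀ g, IsSemi K g → g ∈ preserving (Units.coeHom (Matrix ι ι F)) f ⊓ Geo.specialLinear ι F → g ∈ M)
include hNM

/-- Transitivity on isotropic lines. -/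
theorem exists_move {u w : ι → F} (hu0 : u ≠ 0) (hw0 : w ≠ 0) (hu : fK hE u u = 0) (hw : fK hE w w = 0) :
    ∃ h ∈ M, IsKLin K h ∧ mv h u ∈ line K w := by
  obtain ⟨η, hη0, hη⟩ := exists_anti_K hE
  have one : ∀ x y : ι → F, fK hE x x = 0 → fK hE y y = 0 → fK hE x y ≠ 0 →
      ∃ h ∈ M, IsKLin K h ∧ mv h x ∈ line K y := by
    intro x y hx hy hxy
    set a := τ (η / fK hE x y) with ha
    set y' := a • y with hy'
    have hxy' : fK hE x y' = η := by rw [hy', fK_smul_right, ha, hE.invol, div_mul_cancel₀ _ hxy]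
    have hyy' : fK hE y' y' = 0 := by rw [hy', fK_smul_left, fK_smul_right, hy, mul_zero, mul_zero]
    have hd : fK hE (y' - x) (y' - x) = 0 := by
      rw [fK_sub_left, fK_sub_right, fK_sub_right, hx, hyy', fK_herm hE x y', hxy', hη]; ring
    refine ⟨_, mem_T hE hNM (y' - x) hd (b := η⁻¹) (by rw [map_inv₀, hη, inv_neg]), T_isKLin hE _ _ _, ?_⟩
    rw [mv_T, fK_sub_right, hxy', hx, sub_zero, inv_mul_cancel₀ hη0, one_smul, add_sub_cancel, hy']
    exact smul_mem_line (self_mem_line y) a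
  by_cases huw : fK hE u w ≠ 0
  · exact one u w hu hw huw
  push Not at huw
  obtain ⟨z₁, hz₁, hz₁'⟩ := exists_partner hE hu0 hu
  obtain ⟨z₂, hz₂, hz₂'⟩ := exists_partner hE hw0 hw
  obtain ⟨z, hz, huz, hwz⟩ : ∃ z, fK hE z z = 0 ∧ fK hE u z ≠ 0 ∧ fK hE z w ≠ 0 := by
    by_cases h1 : fK hE w z₁ ≠ 0
    · exact ⟨z₁, hz₁', by rw [hz₁]; exact one_ne_zero, fun h => h1 ((fK_eq_zero_comm hE).1 h)⟩
    by_cases h2 : fK hE u z₂ ≠ 0
    · exact ⟨z₂, hz₂', h2, fun h => by
        have := (fK_eq_zero_comm hE).1 h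
        rw [hz₂] at this; exact one_ne_zero this⟩
    push Not at h1 h2
    set k := -fK hE z₁ z₂
    have hwu : fK hE w u = 0 := (fK_eq_zero_comm hE).1 huw
    refine ⟨z₁ + z₂ + k • u, ?_, ?_, ?_⟩
    · simp only [fK_add_left, fK_add_right, fK_smul_left, fK_smul_right, hz₁', hz₂', hz₁, h2, hu,
        (fK_eq_zero_comm hE).1 h2, fK_herm hE u z₁, fK_herm hE z₁ z₂, map_one, k, map_neg]
      ring
    · simp only [fK_add_right, fK_smul_right, hz₁, h2, hu, mul_zero, add_zero]; exact one_ne_zero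
    · rw [Ne, fK_eq_zero_comm]
      simp only [fK_add_right, fK_smul_right, h1, hz₂, hwu, mul_zero, add_zero, zero_add]; exact one_ne_zero
  obtain ⟨h₁, hh₁, hl₁, hm₁⟩ := one u z hu hz huz
  obtain ⟨h₂, hh₂, hl₂, hm₂⟩ := one z w hz hw hwz
  refine ⟨h₂ * h₁, M.mul_mem hh₂ hh₁, fun k v => by rw [mv_mul, mv_mul, hl₁, hl₂], ?_⟩
  obtain ⟨k, hk⟩ := mem_line.1 hm₁
  rw [mv_mul, ← hk, hl₂]
  exact smul_mem_line hm₂ k

variable (hMS : M ≤ preserving (Units.coeHom (Matrix ι ι F)) f ⊓ Geo.specialLinear ι F)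
include hMS

/-- If the overgroup does not move lines, images of isotropic lines are isotropic lines. -/
theorem lines_map (hfix : ∀ u, u ≠ 0 → fK hE u u = 0 → ∀ g ∈ M, mv g u ∈ line K u → ∀ a : K, mv g (a • u) ∈ line K u)
    {g : GL ι F} (hg : g ∈ M) {u : ι → F} (hu0 : u ≠ 0) (hu : fK hE u u = 0) :
    fK hE (mv g u) (mv g u) = 0 ∧ ∀ a : K, mv g (a • u) ∈ line K (mv g u) := by
  obtain ⟨x, hxm, hx0, hx⟩ := exists_isotropic_in hE hu0 hu (g := g) (fun a b => (hMS hg).1 a b)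
  obtain ⟨v, hv, hgv⟩ := hxm
  have hgv' : mv g v = x := (Matrix.toLin'_apply _ _).symm.trans hgv
  obtain ⟨a₀, rfl⟩ := mem_line.1 hv
  have hv0 : a₀ • u ≠ 0 := fun h => hx0 (by rw [← hgv', h, mv_zero])
  have hvv : fK hE (a₀ • u) (a₀ • u) = 0 := by rw [fK_smul_left, fK_smul_right, hu, mul_zero, mul_zero]
  obtain ⟨h, hh, hl, hhx⟩ := exists_move hE hNM hx0 hv0 hx hvv
  have ha₀ : a₀ ≠ 0 := fun h => hv0 (by rw [h, zero_smul])
  have key : ∀ a : K, mv g (a • u) ∈ line K x := by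
    intro a
    have h1 := hfix _ hv0 hvv (h * g) (M.mul_mem hh hg) (by rwa [mv_mul, hgv']) (a * a₀⁻¹)
    rw [smul_smul, inv_mul_cancel_right₀ ha₀, mv_mul] at h1
    obtain ⟨c, hc⟩ := mem_line.1 hhx
    have hc0 : c ≠ 0 := fun h0 => hx0 (mv_inj h (by rw [← hc, h0, zero_smul, mv_zero]))
    obtain ⟨d, hd⟩ := mem_line.1 h1
    refine mem_line.2 ⟨d / c, mv_inj h ?_⟩
    rw [hl, ← hc, smul_smul, div_mul_cancel₀ _ hc0, hd]
  have hgu := key 1
  rw [one_smul] at hgu
  have hgu0 : mv g u ≠ 0 := fun h => hu0 (mv_inj g (h.trans (mv_zero g).symm))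
  refine ⟨?_, fun a => by rw [line_eq hgu hgu0]; exact key a⟩
  obtain ⟨c, hc⟩ := mem_line.1 hgu
  rw [← hc, fK_smul_left, fK_smul_right, hx, mul_zero, mul_zero]

/-- Then the overgroup is semilinear. -/
theorem semi_of_lines [Nonempty ι]
    (hfix : ∀ u, u ≠ 0 → fK hE u u = 0 → ∀ g ∈ M, mv g u ∈ line K u → ∀ a : K, mv g (a • u) ∈ line K u)
    {u₀ : ι → F} (hu₀0 : u₀ ≠ 0) (hu₀ : fK hE u₀ u₀ = 0) {g : GL ι F} (hg : g ∈ M) : IsSemi K g := by
  classical
  haveI := finite_K hE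
  obtain ⟨η, hη0, hη⟩ := exists_anti_K hE
  have hs : ∀ u, u ≠ 0 → fK hE u u = 0 → ∀ a : K, ∃ b : K, b • mv g u = mv g (a • u) :=
    fun u h0 h a => mem_line.1 ((lines_map hE hNM hMS hfix hg h0 h).2 a)
  have hne : ∀ {u}, u ≠ 0 → mv g u ≠ 0 := fun hu h => hu (mv_inj g (h.trans (mv_zero g).symm))
  choose s hs using hs
  have sone : ∀ u h0 h, s u h0 h 1 = 1 := fun u h0 h => by
    have := hs u h0 h 1
    rw [one_smul] at this
    exact smul_left_injective K (hne h0) (this.trans (one_smul K _).symm)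
  have sadd : ∀ u h0 h a b, s u h0 h (a + b) = s u h0 h a + s u h0 h b := fun u h0 h a b =>
    smul_left_injective K (hne h0) (by
      show _ • mv g u = _ • mv g u
      rw [add_smul, hs, hs, hs, add_smul, mv_add])
  have ssmul : ∀ u h0 h (c : F) a, s u h0 h (c • a) = c • s u h0 h a := fun u h0 h c a =>
    smul_left_injective K (hne h0) (by
      show _ • mv g u = _ • mv g u
      rw [smul_assoc, hs, hs, smul_assoc, mv_smul])
  have sinj : ∀ u h0 h a, s u h0 h a = 0 → a = 0 := fun u h0 h a ha => by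
    have := hs u h0 h a
    rw [ha, zero_smul] at this
    exact (smul_eq_zero.1 (mv_inj g (this.symm.trans (mv_zero g).symm))).resolve_right h0
  -- images of independent lines are independent
  have indep : ∀ {u w} (h0 : u ≠ 0) (h : fK hE u u = 0), w ∉ line K u → mv g w ∉ line K (mv g u) := by
    intro u w h0 h hw hgw
    haveI : Finite K := Module.finite_of_finite F
    obtain ⟨b, hb⟩ := mem_line.1 hgw
    have hinj : Function.Injective (s u h0 h) := fun a a' e => by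
      have := sinj u h0 h (a - a') (by
        have := sadd u h0 h (a - a') a'
        rw [sub_add_cancel] at this
        linear_combination e - this)
      exact sub_eq_zero.1 this
    obtain ⟨a, rfl⟩ := (Finite.injective_iff_surjective.1 hinj) b
    rw [hs] at hb
    exact hw (mem_line.2 ⟨a, mv_inj g hb⟩)
  have pair : ∀ {u w} (h0 : u ≠ 0) (h : fK hE u u = 0) (k0 : w ≠ 0) (k : fK hE w w = 0), w ∉ line K u →
      fK hE (u + w) (u + w) = 0 → ∀ a, s u h0 h a = s w k0 k a := by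
    intro u w h0 h k0 k hw hsum a
    have hsum0 : u + w ≠ 0 := fun e => hw (mem_line.2 ⟨-1, by
      rw [neg_one_smul, ← eq_neg_of_add_eq_zero_right e]⟩)
    have e := hs (u + w) hsum0 hsum a
    rw [smul_add, mv_add, mv_add, smul_add, ← hs u h0 h, ← hs w k0 k] at e
    set c := s (u + w) hsum0 hsum a
    have h' : (c - s u h0 h a) • mv g u = (s w k0 k a - c) • mv g w := by
      rw [sub_smul, sub_smul]; linear_combination (norm := module) e
    by_cases hz : s w k0 k a - c = 0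
    · rw [hz, zero_smul] at h'
      rw [← sub_eq_zero.1 ((smul_eq_zero.1 h').resolve_right (hne h0)), sub_eq_zero.1 hz]
    · exfalso
      refine indep h0 h hw (mem_line.2 ⟨(s w k0 k a - c)⁻¹ * (c - s u h0 h a), ?_⟩)
      rw [← smul_smul, h', smul_smul, inv_mul_cancel₀ hz, one_smul]
  have scale : ∀ {w} (k0 : w ≠ 0) (k : fK hE w w = 0) {l : K} (m0 : l • w ≠ 0) (m : fK hE (l • w) (l • w) = 0) (a : K),
      s (l • w) m0 m a * s w k0 k l = s w k0 k (a * l) := by
    intro w k0 k l m0 m a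
    refine smul_left_injective K (hne k0) ?_
    show _ • mv g w = _ • mv g w
    rw [← smul_smul, hs, hs, hs, smul_smul]
  -- a common multiplicative function
  have good : ∀ {u w} (h0 : u ≠ 0) (h : fK hE u u = 0) (k0 : w ≠ 0) (k : fK hE w w = 0), w ∉ line K u →
      (∀ a, s u h0 h a = s w k0 k a) ∧ ∀ a b, s u h0 h (a * b) = s u h0 h a * s u h0 h b := by
    intro u w h0 h k0 k hw
    obtain ⟨l, hl0, hl⟩ : ∃ l : K, l ≠ 0 ∧ τ (τ l * fK hE u w) = -(τ l * fK hE u w) := by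
      by_cases hc : fK hE u w = 0
      · exact ⟨1, one_ne_zero, by rw [hc]; simp⟩
      · refine ⟨τ (η / fK hE u w), ?_, ?_⟩
        · rw [Ne, map_eq_zero_iff τ τ.injective]; exact div_ne_zero hη0 hc
        · rw [hE.invol, div_mul_cancel₀ _ hc, hη]
    have htest : ∀ t : K, τ t = t → t ≠ 0 → ∃ (m0 : (t * l) • w ≠ 0) (m : fK hE ((t * l) • w) ((t * l) • w) = 0),
        ∀ a, s u h0 h a = s ((t * l) • w) m0 m a := by
      intro t ht ht0
      have m0 : (t * l) • w ≠ 0 := smul_ne_zero (mul_ne_zero ht0 hl0) k0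
      have m : fK hE ((t * l) • w) ((t * l) • w) = 0 := by rw [fK_smul_left, fK_smul_right, k, mul_zero, mul_zero]
      refine ⟨m0, m, pair h0 h m0 m (fun hm => hw ?_) ?_⟩
      · have := smul_mem_line hm (t * l)⁻¹
        rwa [smul_smul, inv_mul_cancel₀ (mul_ne_zero ht0 hl0), one_smul] at this
      · rw [fK_add_left, fK_add_right, fK_add_right, h, m, fK_herm hE u ((t * l) • w), fK_smul_right, map_mul, ht]
        have e2 : τ (t * τ l * fK hE u w) = -(t * τ l * fK hE u w) := by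
          rw [mul_assoc, map_mul, ht, hl]; ring
        rw [e2]; ring
    obtain ⟨m0, m, hm⟩ := htest 1 (map_one τ) one_ne_zero
    -- products with fixed elements
    have hfixmul : ∀ t : K, τ t = t → ∀ a, s u h0 h (a * t) = s u h0 h a * s u h0 h t := by
      intro t ht a
      rcases eq_or_ne t 0 with rfl | ht0
      · have : s u h0 h 0 = 0 := by have := sadd u h0 h 0 0; rw [add_zero] at this; linear_combination this.symm
        rw [mul_zero, this, mul_zero]
      obtain ⟨n0, n, hn⟩ := htest t ht ht0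
      have e1 : s ((1 * l) • w) m0 m (a * t) * s w k0 k (1 * l) = s w k0 k (a * t * (1 * l)) := scale k0 k m0 m _
      have e2 : s ((1 * l) • w) m0 m t * s w k0 k (1 * l) = s w k0 k (t * (1 * l)) := scale k0 k m0 m _
      have e3 : s ((t * l) • w) n0 n a * s w k0 k (t * l) = s w k0 k (a * (t * l)) := scale k0 k n0 n _
      rw [← hm] at e1 e2
      rw [← hn] at e3
      rw [one_mul] at e1 e2
      rw [mul_assoc, ← e3, ← e2] at e1
      have hl' : s w k0 k l ≠ 0 := fun e => hl0 (sinj w k0 k l e)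
      exact mul_right_cancel₀ hl' (by linear_combination e1)
    have hmul : ∀ a b, s u h0 h (a * b) = s u h0 h a * s u h0 h b := by
      intro a b
      let D : K →ₗ[F] K :=
        { toFun := fun b => s u h0 h (a * b) - s u h0 h a * s u h0 h b
          map_add' := fun b c => by rw [mul_add, sadd, sadd]; ring
          map_smul' := fun c b => by rw [mul_smul_comm, ssmul, ssmul, mul_smul_comm, smul_sub, RingHom.id_apply] }
      have hle : Submodule.span F {k : K | τ k = k} ≤ LinearMap.ker D :=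
        Submodule.span_le.2 fun t ht => sub_eq_zero.2 (hfixmul t ht a)
      exact sub_eq_zero.1 (LinearMap.mem_ker.1 (hle (span_fixed hE ▸ Submodule.mem_top (x := b))))
    refine ⟨fun a => ?_, hmul⟩
    have e1 : s ((1 * l) • w) m0 m (a / l) * s w k0 k (1 * l) = s w k0 k (a / l * (1 * l)) := scale k0 k m0 m _
    have e2 : s ((1 * l) • w) m0 m (1 / l) * s w k0 k (1 * l) = s w k0 k (1 / l * (1 * l)) := scale k0 k m0 m _
    rw [← hm, one_mul, div_mul_cancel₀ _ hl0] at e1 e2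
    have e3 : s u h0 h (a / l) = s u h0 h a * s u h0 h (1 / l) := by rw [← hmul, mul_one_div]
    rw [← e1, e3, mul_assoc, e2, sone, mul_one]
  -- spread it out
  obtain ⟨u₀', hu₀'1, hu₀'⟩ := exists_partner hE hu₀0 hu₀
  have hu₀'0 : u₀' ≠ 0 := fun h => by rw [h, fK_zero_right] at hu₀'1; exact zero_ne_one hu₀'1
  have hind : u₀' ∉ line K u₀ := fun hm => by
    have := fK_line hE hu₀ hm
    rw [fK_herm, hu₀'1, map_one] at this
    exact one_ne_zero this
  intro k
  refine ⟨s u₀ hu₀0 hu₀ k, fun v => ?_⟩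
  have hv : v ∈ Submodule.span K {v : ι → F | fK hE v v = 0} := span_isotropic hE hu₀0 hu₀ ▸ Submodule.mem_top
  have all : ∀ w (k0 : w ≠ 0) (k' : fK hE w w = 0), ∀ a, s u₀ hu₀0 hu₀ a = s w k0 k' a := by
    intro w k0 k'
    by_cases hm : w ∈ line K u₀
    · have hw' : u₀' ∉ line K w := by rwa [line_eq hm k0]
      intro a
      rw [(good hu₀0 hu₀ hu₀'0 hu₀' hind).1, (good k0 k' hu₀'0 hu₀' hw').1]
    · exact (good hu₀0 hu₀ k0 k' hm).1
  have hmul := (good hu₀0 hu₀ hu₀'0 hu₀' hind).2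
  suffices ∀ a, mv g (a • v) = s u₀ hu₀0 hu₀ a • mv g v from this k
  induction hv using Submodule.span_induction with
  | mem w hw =>
    intro a
    rcases eq_or_ne w 0 with rfl | k0
    · simp [mv_zero]
    · rw [all w k0 hw, hs]
  | zero => intro a; simp [mv_zero]
  | add x y _ _ hx hy => intro a; rw [smul_add, mv_add, hx, hy, mv_add, smul_add]
  | smul b x _ hx => intro a; rw [smul_smul, hx, hx, smul_smul, hmul]

/-- An element fixing an isotropic point over the field and not its line. -/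
theorem exists_moving [Nonempty ι] {u₀ : ι → F} (hu₀0 : u₀ ≠ 0) (hu₀ : fK hE u₀ u₀ = 0) {g₀ : GL ι F}
    (hg₀ : g₀ ∈ M) (hg₀N : ¬ IsSemi K g₀) :
    ∃ u, u ≠ 0 ∧ fK hE u u = 0 ∧ ∃ g ∈ M, mv g u ∈ line K u ∧ ∃ a : K, mv g (a • u) ∉ line K u := by
  by_contra h
  push Not at h
  exact hg₀N (semi_of_lines hE hNM hMS (fun u h0 h1 g hg hgu a => h u h0 h1 g hg hgu a) hu₀0 hu₀ hg₀)

/-- A conjugate line meeting the given one non-trivially and not orthogonal to it. -/
theorem exists_nonorth [Nonempty ι] (hd : Even (Module.finrank K (ι → F))) {u₀ : ι → F} (hu₀0 : u₀ ≠ 0)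
    (hu₀ : fK hE u₀ u₀ = 0) {g₀ : GL ι F} (hg₀ : g₀ ∈ M) (hg₀N : ¬ IsSemi K g₀) :
    ∃ u, u ≠ 0 ∧ fK hE u u = 0 ∧ ∃ g ∈ M, line K u ⊓ (line K u).map (mvLin g) ≠ ⊥ ∧
      ∃ z ∈ (line K u).map (mvLin g), fK hE z u ≠ 0 := by
  obtain ⟨u, hu0, hu, g, hg, hgu, a, ha⟩ := exists_moving hE hNM hMS hu₀0 hu₀ hg₀ hg₀N
  refine ⟨u, hu0, hu, ?_⟩
  have hgf : ∀ x y, f (mv g x) (mv g y) = f x y := (hMS hg).1
  have hgu0 : mv g u ≠ 0 := fun h => hu0 (mv_inj g (h.trans (mv_zero g).symm))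
  set z := mv g (a • u) with hz
  have hzmem : z ∈ (line K u).map (mvLin g) :=
    ⟨a • u, mem_line.2 ⟨a, rfl⟩, Matrix.toLin'_apply _ _⟩
  by_cases h : fK hE z u ≠ 0
  · refine ⟨g, hg, fun hb => hgu0 ?_, z, hzmem, h⟩
    have : mv g u ∈ line K u ⊓ (line K u).map (mvLin g) :=
      ⟨hgu, ⟨u, self_mem_line u, Matrix.toLin'_apply _ _⟩⟩
    rwa [hb, Submodule.mem_bot] at this
  push Not at h
  obtain ⟨v, hv, huv, hzv⟩ := exists_aux hE hd hu0 hu h ha
  obtain ⟨b, hb, hbℓ⟩ := exists_anti_ell hE (x := fK hE z v * fK hE v z)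
    (mul_ne_zero hzv fun e => hzv ((fK_eq_zero_comm hE).1 e))
  set t := T hE v hv b with ht
  have htM : t ∈ M := mem_T hE hNM v hv hb
  have htgu : mv t (mv g u) = mv g u := by
    refine T_fix hE v hv b ?_
    obtain ⟨c, hc⟩ := mem_line.1 hgu
    rw [← hc, fK_smul_left, huv, mul_zero]
  refine ⟨g⁻¹ * t * g, M.mul_mem (M.mul_mem (M.inv_mem hg) htM) hg, fun hbot => hu0 ?_,
    mv g⁻¹ (mv t z), ⟨a • u, mem_line.2 ⟨a, rfl⟩, by
      rw [Matrix.toLin'_apply]; show mv _ _ = _; rw [mv_mul, mv_mul]⟩, fun h0 => hbℓ ?_⟩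
  · have : u ∈ line K u ⊓ (line K u).map (mvLin (g⁻¹ * t * g)) :=
      ⟨self_mem_line u, ⟨u, self_mem_line u, by
        rw [Matrix.toLin'_apply]; show mv _ _ = _; rw [mv_mul, mv_mul, htgu, mv_inv_mv]⟩⟩
    rwa [hbot, Submodule.mem_bot] at this
  · have e : f (mv g⁻¹ (mv t z)) (mv g⁻¹ z) = f (mv t z) z := (hMS (M.inv_mem hg)).1 (mv t z) z
    rw [hz, mv_inv_mv, ← hz, ← ell_fK_one hE, fK_smul_right, h0, mul_zero, map_zero, ht, mv_T, hE.herm.add_left,
      ← ell_fK hE] at e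
    have hzz : f z z = 0 := by
      rw [hz, hgf]; exact f_line_iso hE hu (mem_line.2 ⟨a, rfl⟩) (mem_line.2 ⟨a, rfl⟩)
    rw [hzz, zero_add] at e
    rw [← mul_assoc]; exact e.symm

end Cfsg.Agent.UFE
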