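/-
A conjugate isotropic line meeting the given one in a hyperplane.
-/
import Cfsg.Agent.Lib.UnitaryFieldExt.Move

set_option autoImplicit false
set_option linter.all false

namespace Cfsg.Agent.UFE

open scoped Matrix
open Matrix Cfsg.Agent.Transvec
open Cfsg.Agent.FieldMax (IsKLin IsSemi line mem_line self_mem_line finrank_line line_eq smul_mem_line)

variable {ι : Type} [Fintype ι] [DecidableEq ι] {F : Type*} [Field F] [Fintype F]
variable {K : Type*} [Field K] [Algebra F K] [Module K (ι → F)] [IsScalarTower F K (ι → F)]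
variable {σ : F ≃+* F} {f : (ι → F) → (ι → F) → F} {τ : K ≃+* K} {ℓ : Module.Dual F K}
variable (hE : Ext σ f τ ℓ)
include hE

/-- A subspace with one, closed under products, is everything or a line. -/
theorem finrank_closed (S : Submodule F K) (h1 : (1 : K) ∈ S) (hmul : ∀ a ∈ S, ∀ b ∈ S, a * b ∈ S) :
    Module.finrank F S = 1 ∨ S = ⊤ := by
  haveI := finite_K hE
  let A : Subalgebra F K := S.toSubalgebra h1 fun a b ha hb => hmul a ha b hb
  haveI := Subalgebra.isSimpleOrder_of_finrank_prime F K hE.prime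
  rcases eq_bot_or_eq_top A with h | h
  · refine Or.inl ?_
    have : A.toSubmodule = S := rfl
    rw [← this, Subalgebra.finrank_toSubmodule, h, Subalgebra.finrank_bot]
  · exact Or.inr (Submodule.eq_top_iff'.2 fun x => show x ∈ A by rw [h]; exact Algebra.mem_top)

/-- The twisted hermitian pencil on a subspace which is zero or non-degenerate at each fixed point is thin. -/
theorem thin_of_pencil {P : Submodule F K}
    (h : ∀ t : K, τ t = t → (∃ p ∈ P, ∃ q ∈ P, ℓ (t * (p * τ q)) ≠ 0) →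
      ∀ p ∈ P, p ≠ 0 → ∃ q ∈ P, ℓ (t * (p * τ q)) ≠ 0) :
    Module.finrank F ↥(Submodule.span F {d : K | ∃ p ∈ P, ∃ q ∈ P, p * τ q = d}) ≤ Module.finrank F P := by
  classical
  haveI := finite_K hE
  set D := Submodule.span F {d : K | ∃ p ∈ P, ∃ q ∈ P, p * τ q = d} with hD
  rcases Nat.eq_zero_or_pos (Module.finrank F P) with h0 | hpos
  · have hP : P = ⊥ := Submodule.finrank_eq_zero.1 h0
    have : D = ⊥ := by
      rw [hD, Submodule.span_eq_bot]
      rintro d ⟨p, hp, q, -, rfl⟩
      rw [hP, Submodule.mem_bot] at hp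
      rw [hp, zero_mul]
    rw [this, finrank_bot]; exact Nat.zero_le _
  by_contra hlt
  push Not at hlt
  -- fixed functionals spanning the dual
  let R : K →ₗ[F] Module.Dual F D :=
    { toFun := fun t => (ℓ.comp (LinearMap.mulLeft F t)).comp D.subtype
      map_add' := fun a c => LinearMap.ext fun z => by simp [add_mul]
      map_smul' := fun a c => LinearMap.ext fun z => by simp }
  have hR : Function.Surjective R := by
    intro φ
    obtain ⟨φ', hφ'⟩ := LinearMap.exists_extend φ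
    obtain ⟨c, hc⟩ := exists_rep hE φ'
    refine ⟨c, LinearMap.ext fun z => ?_⟩
    show ℓ (c * z.1) = φ z
    rw [mul_comm, hc, ← hφ']; rfl
  have hspan : Submodule.span F (R '' {k : K | τ k = k}) = ⊤ := by
    rw [Submodule.span_image, span_fixed hE, Submodule.map_top, LinearMap.range_eq_top.2 hR]
  obtain ⟨B, hBS, -, hBspan, hBind⟩ := exists_linearIndepOn_id_extension (t := R '' {k : K | τ k = k})
    (linearIndepOn_empty F id) (Set.empty_subset _)
  let bs : Module.Basis B F (Module.Dual F D) := Module.Basis.mk hBind.linearIndependent (by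
    simp only [id_eq, Subtype.range_coe_subtype, Set.setOf_mem_eq]
    exact hspan.ge.trans (Submodule.span_le.2 hBspan))
  haveI : Fintype B := FiniteDimensional.fintypeBasisIndex bs
  set m := Module.finrank F D
  have hcard : Fintype.card B = m := by
    rw [← Module.finrank_eq_card_basis bs, Subspace.dual_finrank_eq]
  choose t ht htb using fun b : B => hBS b.2
  let e : Fin m ≃ B := (Fintype.equivFinOfCardEq hcard).symm
  let p := Module.finBasis F P
  obtain ⟨x, hx0, hxσ, hdet⟩ := exists_det_zero (σ := σ) hpos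
    (fun k : Fin m => Matrix.of fun i j => ℓ (t (e k) * ((p i).1 * τ (p j).1)))
    (fun k i j => by
      simp only [Matrix.of_apply]
      rw [← hE.ell_tau, map_mul τ, map_mul τ, ht, hE.invol, mul_comm (τ (p i).1)])
    (by rw [Fintype.card_fin]; exact hlt)
  set T := ∑ k, x k • t (e k) with hT
  have hTfix : τ T = T := by
    rw [hT, map_sum]
    exact Finset.sum_congr rfl fun k _ => by rw [tau_smul hE, hxσ, ht]
  have hRT : R T ≠ 0 := by
    intro h0
    refine hx0 (funext fun k => ?_)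
    rw [hT, map_sum] at h0
    have h1 : ∑ k, x k • bs (e k) = 0 := by
      rw [← h0]
      exact Finset.sum_congr rfl fun k _ => by rw [map_smul, htb]; simp [bs]
    exact Fintype.linearIndependent_iff.1 (bs.linearIndependent.comp e e.injective) x h1 k
  have hne : ∃ p ∈ P, ∃ q ∈ P, ℓ (T * (p * τ q)) ≠ 0 := by
    by_contra hc
    push Not at hc
    refine hRT (LinearMap.ext fun z => ?_)
    have hle : D ≤ LinearMap.ker (ℓ.comp (LinearMap.mulLeft F T)) := by
      rw [hD, Submodule.span_le]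
      rintro d ⟨p, hp, q, hq, rfl⟩
      exact hc p hp q hq
    exact hle z.2
  obtain ⟨v, hv0, hv⟩ := Matrix.exists_vecMul_eq_zero_iff.2 hdet
  set y : P := ∑ i, v i • p i with hy
  have hy0 : y.1 ≠ 0 := fun h0 => hv0 (funext fun i =>
    Fintype.linearIndependent_iff.1 p.linearIndependent v (Subtype.ext h0) i)
  obtain ⟨q, hq, hyq⟩ := h T hTfix hne y.1 y.2 hy0
  apply hyq
  have hj : ∀ j, ℓ (T * (y.1 * τ (p j).1)) = 0 := by
    intro j
    have e1 := congrFun hv j
    simp only [Matrix.vecMul, dotProduct, Matrix.sum_apply, Matrix.smul_apply, Matrix.of_apply, smul_eq_mul,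
      Pi.zero_apply] at e1
    rw [hy, hT, Submodule.coe_sum, ← e1]
    simp only [Submodule.coe_smul, Finset.sum_mul, smul_mul_assoc]
    simp only [Finset.mul_sum, mul_smul_comm, map_sum, map_smul, smul_eq_mul]
    first
      | done
      | exact Finset.sum_congr rfl fun i _ => Finset.sum_congr rfl fun k _ => by ring
      | (rw [Finset.sum_comm]; exact Finset.sum_congr rfl fun i _ => Finset.sum_congr rfl fun k _ => by ring)
  have hq' : (⟨q, hq⟩ : P) = ∑ j, p.repr ⟨q, hq⟩ j • p j := (p.sum_repr _).symm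
  have hq'' : q = ∑ j, p.repr ⟨q, hq⟩ j • (p j).1 := by
    simpa only [Submodule.coe_sum, Submodule.coe_smul] using congrArg Subtype.val hq'
  rw [hq'', map_sum, Finset.mul_sum, Finset.mul_sum, map_sum]
  refine Finset.sum_eq_zero fun j _ => ?_
  rw [tau_smul hE, mul_smul_comm, mul_smul_comm, map_smul, hj, smul_zero]

variable {M : Subgroup (GL ι F)}
  (hNM : ∀ g, IsSemi K g → g ∈ preserving (Units.coeHom (Matrix ι ι F)) f ⊓ Geo.specialLinear ι F → g ∈ M)
  (hMS : M ≤ preserving (Units.coeHom (Matrix ι ι F)) f ⊓ Geo.specialLinear ι F)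
include hNM hMS

/-- A conjugate line meeting the given one in a hyperplane and not orthogonal to it. -/
theorem exists_hyperplane [Nonempty ι] (hd : Even (Module.finrank K (ι → F))) {u₀ : ι → F} (hu₀0 : u₀ ≠ 0)
    (hu₀ : fK hE u₀ u₀ = 0) {g₀ : GL ι F} (hg₀ : g₀ ∈ M) (hg₀N : ¬ IsSemi K g₀) :
    ∃ u, u ≠ 0 ∧ fK hE u u = 0 ∧ ∃ g ∈ M,
      Module.finrank F ↥(line K u ⊓ (line K u).map (mvLin g)) + 1 = Module.finrank F K ∧
      ∃ z ∈ (line K u).map (mvLin g), fK hE z u ≠ 0 := by
  classical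
  haveI := finite_K hE
  obtain ⟨u, hu0, hu, g₁, hg₁, hne₁, hz₁⟩ := exists_nonorth hE hNM hMS hd hu₀0 hu₀ hg₀ hg₀N
  refine ⟨u, hu0, hu, ?_⟩
  let good : GL ι F → Prop := fun g => g ∈ M ∧ line K u ⊓ (line K u).map (mvLin g) ≠ ⊥ ∧
    ∃ z ∈ (line K u).map (mvLin g), fK hE z u ≠ 0
  obtain ⟨g, hgg, hmax⟩ := Set.exists_max_image {g | good g}
    (fun g => Module.finrank F ↥(line K u ⊓ (line K u).map (mvLin g))) (Set.toFinite _) ⟨g₁, hg₁, hne₁, hz₁⟩
  obtain ⟨hg, hne, z₀, hz₀, hz₀u⟩ := hgg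
  set L := line K u with hL
  set L' := L.map (mvLin g) with hL'
  refine ⟨g, hg, ?_, z₀, hz₀, hz₀u⟩
  have hinj : ∀ k : GL ι F, Function.Injective (mvLin k) := fun k x y h =>
    mv_inj k (by rwa [Matrix.toLin'_apply, Matrix.toLin'_apply] at h)
  have hgf : ∀ x y, f (mv g x) (mv g y) = f x y := (hMS hg).1
  have hL'r : Module.finrank F L' = Module.finrank F K := by
    rw [hL', ← LinearEquiv.finrank_eq (Submodule.equivMapOfInjective (mvLin g) (hinj g) L), finrank_line hu0]
  have hL'iso : ∀ x ∈ L', ∀ y ∈ L', f x y = 0 := by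
    rintro _ ⟨x, hx, rfl⟩ _ ⟨y, hy, rfl⟩
    rw [Matrix.toLin'_apply, Matrix.toLin'_apply]
    exact (hgf x y).trans (f_line_iso hE hu hx hy)
  let π : L' →ₗ[F] K := ((formK hE u).restrictScalars F).domRestrict L'
  have hπ : ∀ z : L', π z = fK hE z.1 u := fun z => rfl
  obtain ⟨P, hP⟩ : ∃ P, P = LinearMap.range π := ⟨_, rfl⟩
  obtain ⟨W', hW'⟩ : ∃ W', W' = (LinearMap.ker π).map L'.subtype := ⟨_, rfl⟩
  have hW'r : Module.finrank F P + Module.finrank F W' = Module.finrank F K := by
    rw [hP, hW', Submodule.finrank_map_subtype_eq, LinearMap.finrank_range_add_finrank_ker, hL'r]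
  have hWW' : L ⊓ L' ≤ W' := fun x hx => hW' ▸ ⟨⟨x, hx.2⟩, fK_line hE hu hx.1, rfl⟩
  have hW'k : ∀ x ∈ W', x ∈ L' ∧ fK hE x u = 0 := by
    intro x hx
    rw [hW'] at hx
    obtain ⟨y, hy, rfl⟩ := hx
    exact ⟨y.2, hy⟩
  have hB : ∀ (b : K) (x y : L'), f ((b * π x) • u) y.1 = ℓ (b * (π x * τ (π y))) := fun b x y => by
    rw [← ell_fK hE, hπ y, ← fK_herm, mul_assoc]
  -- new candidates
  have cand : ∀ (b : K), τ b = -b → ∀ (x y : L'), ℓ (b * (π x * τ (π y))) ≠ 0 →
      Module.finrank F ↥(L'.map (mvLin (T hE u hu b)) ⊓ L') ≤ Module.finrank F ↥(L ⊓ L') ∧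
      W' ≤ L'.map (mvLin (T hE u hu b)) ⊓ L' := by
    intro b hb x y hxy
    have hle : W' ≤ L'.map (mvLin (T hE u hu b)) ⊓ L' := fun w hw => ⟨⟨w, (hW'k w hw).1, by
      rw [Matrix.toLin'_apply]; show mv _ _ = _
      rw [T_fix hE u hu b (hW'k w hw).2]⟩, (hW'k w hw).1⟩
    refine ⟨?_, hle⟩
    set t := T hE u hu b with ht
    set k := g⁻¹ * t * g with hk
    have hkM : k ∈ M := M.mul_mem (M.mul_mem (M.inv_mem hg) (mem_T hE hNM u hu hb)) hg
    have hmap : L.map (mvLin k) = (L'.map (mvLin t)).map (mvLin g⁻¹) := by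
      rw [hL', ← Submodule.map_comp, ← Submodule.map_comp]
      congr 1
      exact LinearMap.ext fun z => by
        show mvLin k z = _
        simp only [LinearMap.comp_apply, Matrix.toLin'_apply, hk]
        exact (mv_mul _ _ z).trans (mv_mul _ _ _)
    have hLL : L'.map (mvLin g⁻¹) = L := by
      rw [hL', ← Submodule.map_comp]
      convert Submodule.map_id L
      exact LinearMap.ext fun z => by simpa using mv_inv_mv g z
    have heq : Module.finrank F ↥(L ⊓ L.map (mvLin k)) = Module.finrank F ↥(L'.map (mvLin t) ⊓ L') := by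
      conv_lhs => rw [hmap, ← hLL, inf_comm, ← Submodule.map_inf _ (hinj g⁻¹)]
      exact (LinearEquiv.finrank_eq (Submodule.equivMapOfInjective _ (hinj g⁻¹) _)).symm
    refine heq ▸ hmax k ⟨hkM, fun hb0 => ?_, ?_⟩
    · have h0 : Module.finrank F ↥(L'.map (mvLin t) ⊓ L') = 0 := by rw [← heq, hb0, finrank_bot]
      have : W' = ⊥ := le_bot_iff.1 (hle.trans (Submodule.finrank_eq_zero.1 h0).le)
      exact hne (le_bot_iff.1 (this ▸ hWW'))
    · obtain ⟨y₀, hy₀, hgy⟩ := y.2
      obtain ⟨c, rfl⟩ := mem_line.1 hy₀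
      refine ⟨mv g⁻¹ (mv t x.1), hmap ▸ ⟨mv t x.1, ⟨x.1, x.2, Matrix.toLin'_apply _ _⟩, Matrix.toLin'_apply _ _⟩,
        fun h0 => hxy ?_⟩
      have hgy' : y.1 = mv g (c • u) := hgy.symm.trans (Matrix.toLin'_apply _ _)
      have e : f (mv g⁻¹ (mv t x.1)) (mv g⁻¹ y.1) = f (mv t x.1) y.1 := (hMS (M.inv_mem hg)).1 _ _
      rw [hgy', mv_inv_mv, ← ell_fK_one hE, fK_smul_right, h0, mul_zero, map_zero, ← hgy', ht, mv_T,
        hE.herm.add_left, hL'iso _ x.2 _ y.2, zero_add, ← hπ x, hB] at e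
      exact e.symm
  set p₀ := π ⟨z₀, hz₀⟩ with hp
  have hp0 : p₀ ≠ 0 := hz₀u
  have hpP : p₀ ∈ P := hP ▸ ⟨_, rfl⟩
  have eW : L ⊓ L' = W' := by
    obtain ⟨b, hb, hbℓ⟩ := exists_anti_ell hE (x := p₀ * τ p₀)
      (mul_ne_zero hp0 (by rwa [Ne, map_eq_zero_iff τ τ.injective]))
    obtain ⟨h1, h2⟩ := cand b hb ⟨z₀, hz₀⟩ ⟨z₀, hz₀⟩ hbℓ
    exact Submodule.eq_of_le_of_finrank_le hWW' ((Submodule.finrank_mono h2).trans h1)
  -- the orthogonal of L' in L is the meet
  have hrad : ∀ c : K, (∀ y : L', ℓ (c * τ (π y)) = 0) → c • u ∈ W' := by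
    let A : Submodule F K := Submodule.comap ((LinearMap.toSpanSingleton K (ι → F) u).restrictScalars F) W'
    let N : Submodule F K :=
      { carrier := {a | ∀ y : L', ℓ (a * π y) = 0}
        add_mem' := fun {a c} ha hc y => by rw [add_mul, map_add, ha, hc, add_zero]
        zero_mem' := fun y => by rw [zero_mul, map_zero]
        smul_mem' := fun s a ha y => by rw [smul_mul_assoc, map_smul, ha, smul_zero] }
    have hmemA : ∀ a, a ∈ A ↔ a • u ∈ W' := fun a => Iff.rfl
    have hdimA : Module.finrank F A = Module.finrank F W' := by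
      have hi : Function.Injective ((LinearMap.toSpanSingleton K (ι → F) u).restrictScalars F) :=
        fun a c h => smul_left_injective K hu0 h
      have hle : W' ≤ LinearMap.range ((LinearMap.toSpanSingleton K (ι → F) u).restrictScalars F) := fun x hx => by
        obtain ⟨a, rfl⟩ := mem_line.1 (eW ▸ hx : x ∈ L ⊓ L').1
        exact ⟨a, rfl⟩
      rw [(Submodule.equivMapOfInjective _ hi A).finrank_eq, Submodule.map_comap_eq, inf_eq_right.2 hle]
    have hdimN : Module.finrank F N + Module.finrank F P = Module.finrank F K := by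
      let R : K →ₗ[F] Module.Dual F P :=
        { toFun := fun a => (ℓ.comp (LinearMap.mulLeft F a)).comp P.subtype
          map_add' := fun a c => LinearMap.ext fun z => by simp [add_mul]
          map_smul' := fun a c => LinearMap.ext fun z => by simp }
      have hR : Function.Surjective R := by
        intro φ
        obtain ⟨φ', hφ'⟩ := LinearMap.exists_extend φ
        obtain ⟨c, hc⟩ := exists_rep hE φ'
        refine ⟨c, LinearMap.ext fun z => ?_⟩
        show ℓ (c * z.1) = φ z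
        rw [mul_comm, hc, ← hφ']; rfl
      have hk : LinearMap.ker R = N := by
        ext a
        refine ⟨fun h y => LinearMap.congr_fun h ⟨π y, hP ▸ ⟨y, rfl⟩⟩, fun h => LinearMap.ext fun z => ?_⟩
        obtain ⟨y, hy⟩ := (hP ▸ z.2 : z.1 ∈ LinearMap.range π)
        show ℓ (a * z.1) = 0
        rw [← hy]; exact h y
      have := LinearMap.finrank_range_add_finrank_ker R
      rw [LinearMap.range_eq_top.2 hR, finrank_top, Subspace.dual_finrank_eq, hk] at this
      omega
    have hAN : ∀ a ∈ A, τ a ∈ N := fun a ha y => by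
      have h1 := hL'iso _ (hW'k _ ((hmemA a).1 ha)).1 _ y.2
      rw [← ell_fK hE, fK_herm, ← hπ] at h1
      rw [show τ a * π y = τ (a * τ (π y)) by rw [map_mul, hE.invol], hE.ell_tau, h1, map_zero]
    haveI : Finite K := Module.finite_of_finite F
    have hcard : Nat.card A = Nat.card N := by
      rw [Module.natCard_eq_pow_finrank (K := F) (V := A), Module.natCard_eq_pow_finrank (K := F) (V := N)]
      congr 1
      omega
    have hbij : Function.Bijective fun a : A => (⟨τ a.1, hAN a.1 a.2⟩ : N) :=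
      (Function.Injective.bijective_of_nat_card_le
        (fun a c h => Subtype.ext (τ.injective (congrArg Subtype.val h))) hcard.ge)
    intro c hc
    obtain ⟨a, ha⟩ := hbij.2 ⟨τ c, fun y => by
      rw [show τ c * π y = τ (c * τ (π y)) by rw [map_mul, hE.invol], hE.ell_tau, hc, map_zero]⟩
    have := τ.injective (congrArg Subtype.val ha)
    rw [← this]
    exact a.2
  have hnd : ∀ b : K, τ b = -b → ∀ (x y : L'), ℓ (b * (π x * τ (π y))) ≠ 0 → ∀ x' : L', π x' ≠ 0 →
      ∃ y' : L', ℓ (b * (π x' * τ (π y'))) ≠ 0 := by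
    intro b hb x y hxy x' hx'
    by_contra hc
    push Not at hc
    obtain ⟨h1, h2⟩ := cand b hb x y hxy
    have hXW : (b * π x') • u ∈ W' := hrad _ fun y' => by rw [mul_assoc]; exact hc y'
    have hnew : mv (T hE u hu b) x'.1 ∈ L'.map (mvLin (T hE u hu b)) ⊓ L' :=
      ⟨⟨x'.1, x'.2, Matrix.toLin'_apply _ _⟩, by rw [mv_T, ← hπ]; exact L'.add_mem x'.2 (hW'k _ hXW).1⟩
    have hnot : mv (T hE u hu b) x'.1 ∉ W' := fun h => hx' (by
      have := (hW'k _ h).2
      rw [mv_T, fK_add_left, fK_smul_left, hu, mul_zero, add_zero] at this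
      exact this)
    have := Submodule.finrank_lt_finrank_of_lt (lt_of_le_of_ne h2 fun he => hnot (he ▸ hnew))
    rw [eW] at h1
    omega
  obtain ⟨η, hη0, hη⟩ := exists_eta hE
  have hthin := thin_of_pencil hE (P := P) (fun t ht ⟨p, hp, q, hq, hpq⟩ p' hp' hp'0 => by
    rw [hP] at hp hq hp'
    obtain ⟨x, rfl⟩ := hp
    obtain ⟨y, rfl⟩ := hq
    obtain ⟨x', rfl⟩ := hp'
    have hbt : ∀ k, ℓ (η • t * k) = η * ℓ (t * k) := fun k => by rw [smul_mul_assoc, map_smul, smul_eq_mul]
    obtain ⟨y', hy'⟩ := hnd (η • t) (by rw [tau_smul hE, hη, ht, neg_smul]) x y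
      (by rw [hbt]; exact mul_ne_zero hη0 hpq) x' hp'0
    exact ⟨π y', hP ▸ ⟨y', rfl⟩, fun h0 => hy' (by rw [hbt, h0, mul_zero])⟩)
  set D := Submodule.span F {d : K | ∃ p ∈ P, ∃ q ∈ P, p * τ q = d} with hD
  have hτp0 : τ p₀ ≠ 0 := by rwa [Ne, map_eq_zero_iff τ τ.injective]
  have hmi : ∀ {c : K}, c ≠ 0 → Function.Injective (LinearMap.mulRight F c) := fun hc a a' h => mul_right_cancel₀ hc h
  have hDeq : P.map (LinearMap.mulRight F (τ p₀)) = D := by
    refine Submodule.eq_of_le_of_finrank_le ?_ ?_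
    · rintro _ ⟨p, hp, rfl⟩
      exact Submodule.subset_span ⟨p, hp, p₀, hpP, rfl⟩
    · rw [← (Submodule.equivMapOfInjective _ (hmi hτp0) P).finrank_eq]
      exact hthin
  set S := P.map (LinearMap.mulRight F p₀⁻¹) with hSdef
  have hS : Module.finrank F S = Module.finrank F P :=
    ((Submodule.equivMapOfInjective _ (hmi (inv_ne_zero hp0)) P).finrank_eq).symm
  have h1S : (1 : K) ∈ S := ⟨p₀, hpP, mul_inv_cancel₀ hp0⟩
  have htw : ∀ a ∈ S, ∀ b ∈ S, a * τ b ∈ S := by
    rintro _ ⟨p, hp, rfl⟩ _ ⟨q, hq, rfl⟩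
    obtain ⟨p', hp', he⟩ := hDeq.ge (Submodule.subset_span ⟨p, hp, q, hq, rfl⟩ : p * τ q ∈ D)
    refine ⟨p', hp', ?_⟩
    simp only [LinearMap.mulRight_apply] at he ⊢
    rw [map_mul, map_inv₀]
    field_simp
    linear_combination he
  have hs := finrank_closed hE S h1S fun a ha b hb => by
    have := htw a ha (1 * τ b) (htw 1 h1S b hb)
    rwa [one_mul, hE.invol] at this
  show Module.finrank F ↥(L ⊓ L') + 1 = Module.finrank F K
  have hpos : 0 < Module.finrank F ↥(L ⊓ L') :=
    Nat.pos_of_ne_zero fun h => hne (Submodule.finrank_eq_zero.1 h)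
  rw [eW] at hpos ⊢
  rcases hs with hs | hs
  · omega
  · rw [hs, finrank_top] at hS; omega

end Cfsg.Agent.UFE
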