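/-
The normaliser of an extension field with unitary form of even dimension is maximal in the special unitary group.
-/
import Cfsg.Agent.Lib.UnitaryFieldExt.Rank
import Cfsg.Agent.Lib.UnitaryFieldExt.Descend

set_option autoImplicit false
set_option linter.all false

namespace Cfsg.Agent.UFE

open scoped Matrix
open Matrix Cfsg.Agent.Transvec
open Cfsg.Agent.Transvec.Herm (fixedField)
open Cfsg.Agent.FieldMax (IsKLin IsSemi line mem_line self_mem_line finrank_line line_eq smul_mem_line)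

theorem count_bound {q r : ℕ} (hq : 2 ≤ q) (hr : 5 ≤ r) :
    2 * ((q ^ 2 - 1) * (q ^ 2 - 1)) < q ^ r + 1 := by
  have h1 : (q ^ 2 - 1) * (q ^ 2 - 1) ≤ q ^ 2 * q ^ 2 := Nat.mul_le_mul (Nat.sub_le _ _) (Nat.sub_le _ _)
  have h2 : q ^ 5 ≤ q ^ r := Nat.pow_le_pow_right (by omega) hr
  have h3 : 2 * (q ^ 2 * q ^ 2) ≤ q ^ 5 := by
    rw [show q ^ 5 = q * (q ^ 2 * q ^ 2) by ring]; exact Nat.mul_le_mul_right _ hq
  omega

theorem count_not_dvd {q : ℕ} (hq : 3 ≤ q) : ¬ q ^ 3 + 1 ∣ 2 * ((q ^ 2 - 1) * (q ^ 2 - 1)) := by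
  rintro ⟨k, hk⟩
  have h1 : 1 ≤ q ^ 2 := Nat.one_le_pow _ _ (by omega)
  have hk' : (2 : ℤ) * (((q : ℤ) ^ 2 - 1) * ((q : ℤ) ^ 2 - 1)) = ((q : ℤ) ^ 3 + 1) * k := by
    have := congrArg ((↑) : ℕ → ℤ) hk
    push_cast [Nat.cast_sub h1] at this
    linarith
  have h2 : ((k : ℤ) - 2 * q) * ((q : ℤ) ^ 2 - q + 1) = 2 - 4 * q := by
    refine mul_left_cancel₀ (show (q : ℤ) + 1 ≠ 0 by positivity) ?_
    linear_combination -hk'
  rcases Nat.lt_or_ge q 5 with h5 | h5
  · interval_cases q <;> norm_num at h2 <;> omega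
  · have h6 : (5 : ℤ) ≤ q := by exact_mod_cast h5
    rcases lt_trichotomy ((k : ℤ) - 2 * q) 0 with hd | hd | hd
    · have hd1 : ((k : ℤ) - 2 * q) + 1 ≤ 0 := by omega
      nlinarith [mul_nonpos_of_nonpos_of_nonneg hd1 (show (0 : ℤ) ≤ (q : ℤ) ^ 2 - q + 1 by nlinarith),
        mul_nonneg (sub_nonneg.2 h6) (show (0 : ℤ) ≤ q by omega)]
    · rw [hd] at h2; omega
    · nlinarith

variable {ι : Type} [Fintype ι] [DecidableEq ι] {F : Type*} [Field F] [Fintype F]
variable {K : Type*} [Field K] [Algebra F K] [Module K (ι → F)] [IsScalarTower F K (ι → F)]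
variable {σ : F ≃+* F} {f : (ι → F) → (ι → F) → F} {τ : K ≃+* K} {ℓ : Module.Dual F K}
variable (hE : Ext σ f τ ℓ)
include hE

theorem exists_isotropic_point (hd : 2 ≤ Module.finrank K (ι → F)) : ∃ u, u ≠ 0 ∧ fK hE u u = 0 := by
  haveI := finite_K hE
  haveI : Finite K := Module.finite_of_finite F
  obtain ⟨e, hg⟩ := exists_coords hE
  obtain ⟨x, -, hx0, hx⟩ := Herm.exists_isotropic hg (Herm.nondeg_top hg)
    (by rw [finrank_top, Module.finrank_fin_fun]; exact hd)
  exact ⟨e.symm x, fun h => hx0 (by simpa using h), hx⟩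

theorem exists_outside (hn : 3 ≤ Fintype.card ι) {u : ι → F} (hu0 : u ≠ 0) (hu : fK hE u u = 0) :
    ∃ g ∈ preserving (Units.coeHom (Matrix ι ι F)) f ⊓ Geo.specialLinear ι F, ¬ IsSemi K g := by
  have hf := hE.herm
  have huu : f u u = 0 := by rw [← ell_fK_one hE, hu, map_zero]
  obtain ⟨η, hη0, hη⟩ := exists_eta hE
  refine ⟨Herm.htv hf u huu η, ⟨Herm.htv_mem hf u huu hη, Herm.htv_mem_specialLinear hf u huu η⟩, fun hsemi => ?_⟩
  have hlin : ∀ (k : K) v, (η * f (k • v) u) • u = k • ((η * f v u) • u) := by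
    intro k v
    let Φ : (ι → F) →ₗ[F] F × F :=
      (Herm.formH hf u).prod ((Herm.formH hf u).comp (DistribSMul.toLinearMap F (ι → F) k))
    obtain ⟨z, hz, hz0⟩ := (LinearMap.ker Φ).ne_bot_iff.1 (fun h => by
      have h1 := LinearMap.finrank_range_add_finrank_ker Φ
      have h2 := Submodule.finrank_le (LinearMap.range Φ)
      rw [Module.finrank_prod, Module.finrank_self] at h2
      rw [h, finrank_bot, Module.finrank_fintype_fun_eq_card] at h1
      omega)
    have h1 : f z u = 0 := congrArg Prod.fst (LinearMap.mem_ker.1 hz)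
    have h2 : f (k • z) u = 0 := congrArg Prod.snd (LinearMap.mem_ker.1 hz)
    obtain ⟨k', hk'⟩ := hsemi k
    have e := hk' z
    rw [Herm.mv_htv, Herm.mv_htv, h1, h2] at e
    simp only [mul_zero, zero_smul, add_zero] at e
    have e2 := hk' v
    rw [← smul_left_injective K hz0 e, Herm.mv_htv, Herm.mv_htv, smul_add] at e2
    exact add_left_cancel e2
  obtain ⟨y, hy⟩ := (hf.nondegenerate u hu0).1
  have hle : line K u ≤ Submodule.span F {u} := fun x hx => by
    obtain ⟨k, rfl⟩ := mem_line.1 hx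
    have e := hlin k y
    rw [smul_comm k (η * f y u) u] at e
    have := congrArg (fun z => (η * f y u)⁻¹ • z) e
    simp only [smul_smul, inv_mul_cancel₀ (mul_ne_zero hη0 hy), one_smul] at this
    rw [← this]
    exact Submodule.smul_mem _ _ (Submodule.mem_span_singleton_self u)
  have := Submodule.finrank_mono hle
  rw [finrank_line hu0, finrank_span_singleton hu0] at this
  have := hE.prime.two_le
  omega

/-- The scalar of the field as an invertible matrix. -/
noncomputable def scalarGL (l : Kˣ) : GL ι F where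
  val := LinearMap.toMatrix' (DistribSMul.toLinearMap F (ι → F) (l : K))
  inv := LinearMap.toMatrix' (DistribSMul.toLinearMap F (ι → F) ((l⁻¹ : Kˣ) : K))
  val_inv := by
    rw [← LinearMap.toMatrix'_comp, ← LinearMap.toMatrix'_id]
    congr 1
    exact LinearMap.ext fun v => by simp [smul_smul]
  inv_val := by
    rw [← LinearMap.toMatrix'_comp, ← LinearMap.toMatrix'_id]
    congr 1
    exact LinearMap.ext fun v => by simp [smul_smul]

theorem mv_scalarGL (l : Kˣ) (v : ι → F) : mv (scalarGL l) v = (l : K) • v :=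
  LinearMap.toMatrix'_mulVec _ _

/-- A scalar isometry of determinant one which is not a square root of a scalar of the base field. -/
theorem exists_scalar (hr : 5 ≤ Module.finrank F K ∨ Module.finrank F K = 3 ∧ 3 ≤ Nat.card (fixedField σ)) :
    ∃ l : Kˣ, (l : K) * τ l = 1 ∧
      scalarGL l ∈ preserving (Units.coeHom (Matrix ι ι F)) f ⊓ Geo.specialLinear ι F ∧
      ∀ c : F, (l : K) * l ≠ algebraMap F K c := by
  classical
  haveI := finite_K hE
  haveI : Finite K := Module.finite_of_finite F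
  haveI : Fintype K := Fintype.ofFinite K
  set Q := Nat.card (fixedField τ) with hQ
  set q := Nat.card (fixedField σ) with hq
  have hKc : Nat.card K = Q ^ 2 := Herm.card_eq_sq (tau_ne hE) hE.invol
  have hFc : Nat.card F = q ^ 2 := Herm.card_eq_sq hE.herm.ne_refl hE.herm.involutive
  have hq2 : 2 ≤ q := Finite.one_lt_card
  have hQr : Q = q ^ Module.finrank F K := by
    have h := Module.natCard_eq_pow_finrank (K := F) (V := K)
    rw [hKc, hFc, ← pow_mul, mul_comm, pow_mul] at h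
    exact Nat.pow_left_injective two_ne_zero h
  have hQ2 : 2 ≤ Q := Finite.one_lt_card
  obtain ⟨g, hg⟩ := IsCyclic.exists_generator (α := Kˣ)
  have hord : orderOf g = Q ^ 2 - 1 := by
    rw [orderOf_eq_card_of_forall_mem_zpowers hg, Nat.card_units, hKc]
  have hfac : Q ^ 2 - 1 = (Q + 1) * (Q - 1) := by simpa using Nat.sq_sub_sq Q 1
  set y := g ^ (Q - 1) with hy
  have hyord : orderOf y = Q + 1 := by
    rw [hy, orderOf_pow' g (by omega), hord, hfac, Nat.gcd_eq_right ⟨Q + 1, mul_comm _ _⟩,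
      Nat.mul_div_cancel _ (by omega)]
  have hτy : (y : K) * τ y = 1 := by
    rw [Herm.apply_eq_pow (tau_ne hE) hE.invol, ← pow_succ', ← Units.val_pow_eq_pow_val, ← hyord,
      pow_orderOf_eq_one, Units.val_one]
  set l := y ^ (q ^ 2 - 1) with hl
  have hlτ : (l : K) * τ l = 1 := by
    rw [hl, Units.val_pow_eq_pow_val, map_pow, ← mul_pow, hτy, one_pow]
  refine ⟨l, hlτ, ⟨fun a b => ?_, ?_⟩, fun c hc => ?_⟩
  · show f (mv (scalarGL l) a) (mv (scalarGL l) b) = f a b
    rw [mv_scalarGL hE, mv_scalarGL hE, hE.adj, smul_smul, mul_comm, hlτ, one_smul]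
  · show Matrix.GeneralLinearGroup.det (scalarGL l) = 1
    ext
    rw [Matrix.GeneralLinearGroup.val_det_apply, Units.val_one]
    show (LinearMap.toMatrix' (DistribSMul.toLinearMap F (ι → F) (l : K))).det = 1
    haveI : Module.Finite K (ι → F) := Module.Finite.of_restrictScalars_finite F K (ι → F)
    have he : DistribSMul.toLinearMap F (ι → F) (l : K) =
        ((l : K) • (LinearMap.id : (ι → F) →ₗ[K] ι → F)).restrictScalars F := LinearMap.ext fun v => rfl
    rw [LinearMap.det_toMatrix', he, LinearMap.det_restrictScalars, LinearMap.det_smul, LinearMap.det_id, mul_one,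
      hl, Units.val_pow_eq_pow_val, ← pow_mul, mul_comm, pow_mul, map_pow, ← hFc, Nat.card_eq_fintype_card]
    refine FiniteField.pow_card_sub_one_eq_one _ ?_
    rw [map_pow]
    exact pow_ne_zero _ (Algebra.norm_ne_zero_iff.2 y.ne_zero)
  · have hc0 : c ≠ 0 := fun h => by
      rw [h, map_zero] at hc
      exact mul_ne_zero l.ne_zero l.ne_zero hc
    have h1 : ((l : K) * l) ^ (q ^ 2 - 1) = 1 := by
      rw [hc, ← map_pow, ← hFc, Nat.card_eq_fintype_card, FiniteField.pow_card_sub_one_eq_one c hc0, map_one]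
    have h2 : y ^ (2 * ((q ^ 2 - 1) * (q ^ 2 - 1))) = 1 := by
      ext
      rw [Units.val_one, ← h1, hl]
      simp only [Units.val_pow_eq_pow_val]
      ring
    rcases hr with hr | ⟨hr, hq3⟩
    · have h3 := Nat.le_of_dvd (by
        have : 0 < q ^ 2 - 1 := by have := Nat.pow_le_pow_left hq2 2; omega
        positivity) (orderOf_dvd_of_pow_eq_one h2)
      rw [hyord, hQr] at h3
      have := count_bound hq2 hr
      omega
    · have h3 := orderOf_dvd_of_pow_eq_one h2
      rw [hyord, hQr, hr] at h3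
      exact count_not_dvd hq3 h3

/-- The normaliser of the field is maximal in the special unitary group. -/
theorem maximal (hd : Even (Module.finrank K (ι → F)))
    (hcond : 4 ≤ Module.finrank K (ι → F) ∨ 5 ≤ Module.finrank F K ∨
      Module.finrank F K = 3 ∧ 3 ≤ Nat.card (fixedField σ)) (hd2 : 2 ≤ Module.finrank K (ι → F))
    (hr3 : 3 ≤ Module.finrank F K) {N : Subgroup (GL ι F)} (hN : ∀ g, g ∈ N ↔ IsSemi K g) :
    Geo.IsMaximalIn (preserving (Units.coeHom (Matrix ι ι F)) f ⊓ Geo.specialLinear ι F)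
      (N ⊓ (preserving (Units.coeHom (Matrix ι ι F)) f ⊓ Geo.specialLinear ι F)) := by
  classical
  have hcard : Fintype.card ι = Module.finrank F K * Module.finrank K (ι → F) := by
    rw [Module.finrank_mul_finrank, Module.finrank_fintype_fun_eq_card]
  have hn : 6 ≤ Fintype.card ι := by rw [hcard]; exact Nat.mul_le_mul hr3 hd2
  haveI : Nonempty ι := Fintype.card_pos_iff.1 (by omega)
  obtain ⟨u₀, hu₀0, hu₀⟩ := exists_isotropic_point hE hd2
  set G := preserving (Units.coeHom (Matrix ι ι F)) f ⊓ Geo.specialLinear ι F with hG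
  obtain ⟨t, ht, htN⟩ := exists_outside hE (by omega) hu₀0 hu₀
  refine ⟨lt_of_le_of_ne inf_le_right fun he => htN ((hN t).1 (he.ge ht).1), fun M hHM hMS => ?_⟩
  by_cases hall : ∀ g ∈ M, IsSemi K g
  · exact Or.inl (le_antisymm (fun g hg => ⟨(hN g).2 (hall g hg), hMS hg⟩) hHM)
  push Not at hall
  obtain ⟨g₀, hg₀, hg₀N⟩ := hall
  have hNM : ∀ g, IsSemi K g → g ∈ G → g ∈ M := fun g h1 h2 => hHM ⟨(hN g).2 h1, h2⟩
  obtain ⟨u, hu0, hu, g, hg, hW, z₀, hz₀, hz₀u⟩ :=
    exists_hyperplane hE hNM hMS hd hu₀0 hu₀ hg₀ hg₀N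
  obtain ⟨v, hv0, hv, t₁, t₂, ht₁, ht₂, ht₁0, ht₂s, γ, hγ0, hγ, c, hc, hcz⟩ :=
    exists_rank_two hE hNM hMS hr3 hu0 hu hg hW hz₀ hz₀u
  obtain ⟨η, hη0, hη⟩ := exists_eta hE
  set η' := algebraMap F K η with hη'
  have hη'0 : η' ≠ 0 := (map_ne_zero _).2 hη0
  have hη'a : τ η' = -η' := by rw [hη', hE.ext_map, hη, map_neg]
  obtain ⟨S, hvS, hS, hiso, hanti, ⟨v', hv'S, hvv'⟩, hfour⟩ := exists_frame hE hd hv0 hv hη'0 hη'a
  obtain ⟨P, hP⟩ := exists_rational hE hiso hanti hS
  have hcN : ¬ IsSemi K c := by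
    refine not_isSemi_rank_two hE hr3 ?_ (a := t₁ • v) (b := t₂ • v) (fun k h => ht₂s ?_) (smul_ne_zero ht₁0 hv0) hγ0
      hcz
    · have h2 : Module.finrank F K * 2 ≤ Module.finrank F K * Module.finrank K (ι → F) :=
        Nat.mul_le_mul_left _ hd2
      omega
    · rw [← smul_assoc] at h
      rw [smul_left_injective K hv0 h]
      exact Submodule.smul_mem _ _ (Submodule.mem_span_singleton_self t₁)
  have hcW : ∀ x ∈ W0 τ S, mv c x ∈ W0 τ S := by
    intro x hx
    rw [hcz]
    beta_reduce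
    have h1 := smul_mem_W0 ht₁ (mem_W0 (τ := τ) hvS)
    have h2 := smul_mem_W0 ht₂ (mem_W0 (τ := τ) hvS)
    rw [smul_add, smul_smul, smul_smul]
    refine add_mem hx (add_mem (smulF_mem_W0 hE ?_ h2) (smulF_mem_W0 hE ?_ h1))
    · rw [map_mul, hγ, f_anti_W0 hE hanti hx h1]; ring
    · rw [map_mul, hγ, f_anti_W0 hE hanti hx h2]; ring
  set f' := fun a b => f (mv P a) (mv P b) with hf'
  have hf := Herm.pull_isUnitary hE.herm P
  set F₀ := fixedField σ
  have halt : ∀ a : ι → F, RatV F₀ a → f' a a = 0 := fun a ha => by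
    show f (mv P a) (mv P a) = 0
    rw [← ell_fK_one hE, self_W0 hE hiso hanti ((hP a).2 ha), map_zero]
  have hG' : ∀ a b : ι → F, RatV F₀ a → RatV F₀ b → η * f' a b ∈ F₀ := fun a b ha hb => by
    show σ (η * f (mv P a) (mv P b)) = _
    rw [map_mul, hη, f_anti_W0 hE hanti ((hP a).2 ha) ((hP b).2 hb)]; ring
  set conjP := (MulAut.conj P).toMonoidHom with hconj
  have hM' : M.comap conjP ≤ preserving (Units.coeHom (Matrix ι ι F)) f' ⊓ Geo.specialLinear ι F := by
    intro x hx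
    have h := (Herm.map_su (f := f) P).ge (hMS hx)
    obtain ⟨y, hy, hyx⟩ := h
    rwa [(MulAut.conj P).injective hyx] at hy
  rcases Herm.sp_in_su_overgroup hf hn
      (by rw [← Nat.card_eq_fintype_card, Herm.card_eq_sq hE.herm.ne_refl hE.herm.involutive]) hη0 hη hG' halt hM'
      (fun a ha k hk => rational_transvections hE hP hn hiso hanti hS hNM hMS hc hcN hcW a ha (halt a ha) k hk)
    with hrat | heq
  swap
  · refine Or.inr ?_
    have h := congrArg (Subgroup.map conjP) heq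
    rw [Subgroup.map_comap_eq_self_of_surjective (f := conjP) (MulAut.conj P).surjective, hconj, Herm.map_su] at h
    exact h
  exfalso
  have hscale : ∀ k ∈ M, ∃ a : F, a ≠ 0 ∧ ∀ x ∈ W0 τ S, a • mv k x ∈ W0 τ S := by
    intro k hk
    obtain ⟨a, ha, hA⟩ := hrat (P⁻¹ * k * P) (by
      show P * (P⁻¹ * k * P) * P⁻¹ ∈ M
      convert hk using 1
      group)
    refine ⟨a, ha, fun x hx => ?_⟩
    obtain ⟨x₀, hx₀⟩ : ∃ x₀, mv P x₀ = x := ⟨_, mv_mv_inv P x⟩
    subst hx₀
    have h2 : RatV F₀ (a • mv (P⁻¹ * k * P) x₀) := by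
      show RatV F₀ (a • ((P⁻¹ * k * P : GL ι F) : Matrix ι ι F) *ᵥ x₀)
      rw [← Matrix.smul_mulVec]
      exact ratV_mulVec hA ((hP x₀).1 hx)
    have h3 := (hP _).2 h2
    rwa [mv_smul, mv_mul, mv_mul, mv_mv_inv] at h3
  have hanti_fix : ∀ {s : K} {x y : ι → F}, x ∈ S → y ∈ S → fK hE x y = η' → s • x ∈ W0 τ S → τ s = s := by
    intro s x y hx hy hxy hs
    have h := anti_W0 hE hanti hs y (mem_W0 hy)
    rw [fK_smul_left, hxy, map_mul, hη'a, mul_neg, neg_inj] at h
    exact mul_right_cancel₀ hη'0 h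
  by_cases h4 : 4 ≤ Module.finrank K (ι → F)
  · obtain ⟨u', hu'S, w, hwS, w', hw'S, hvu', hww', hvw, hvw', hwu'⟩ := hfour h4
    obtain ⟨θ, hθ⟩ := exists_theta hE
    set x := v + algebraMap F K θ • w with hx
    have hxx : fK hE x x = 0 := by
      simp only [hx, fK_add_left, fK_add_right, fK_smul_left, fK_smul_right, hv, hiso w hwS, hvw,
        (fK_eq_zero_comm hE).1 hvw, mul_zero, add_zero]
    set h := T hE x hxx η'
    obtain ⟨a, ha0, ha⟩ := hscale h (mem_T hE hNM x hxx hη'a)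
    have hhv : mv h v = v := T_fix hE x hxx η' (by
      simp only [hx, fK_add_right, fK_smul_right, hv, hvw, mul_zero, add_zero])
    have haf : σ a = a := by
      have h1 := ha v (mem_W0 hvS)
      rw [hhv, ← IsScalarTower.algebraMap_smul K a v] at h1
      have h2 := hanti_fix hvS hu'S hvu' h1
      rw [hE.ext_map] at h2
      exact (algebraMap F K).injective h2
    have h1 := smulF_mem_W0 hE (c := a⁻¹) (by rw [map_inv₀, haf]) (ha u' (mem_W0 hu'S))
    rw [smul_smul, inv_mul_cancel₀ ha0, one_smul] at h1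
    have h2 := sub_mem h1 (mem_W0 (τ := τ) hu'S)
    rw [mv_T, add_sub_cancel_left] at h2
    set β := η' * fK hE u' x with hβ
    have hβe : β = -(η' * η') := by
      rw [hβ, hx, fK_add_right, fK_smul_right, fK_herm hE v u', hvu', hη'a, (fK_eq_zero_comm hE).1 hwu', mul_zero,
        add_zero, mul_neg]
    have hβ0 : β ≠ 0 := by rw [hβe]; exact neg_ne_zero.2 (mul_ne_zero hη'0 hη'0)
    have h3 := smul_mem_W0 (t := β⁻¹) (by rw [map_inv₀, hβe, map_neg, map_mul, hη'a]; ring) h2
    rw [smul_smul, inv_mul_cancel₀ hβ0, one_smul] at h3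
    have h4 := anti_W0 hE hanti h3 w' (mem_W0 hw'S)
    rw [hx, fK_add_left, fK_smul_left, hvw', hww', zero_add, map_mul, hη'a, hE.ext_map, mul_neg, neg_inj] at h4
    exact hθ ((algebraMap F K).injective (mul_right_cancel₀ hη'0 h4))
  · obtain ⟨l, hl, hlG, hlc⟩ := exists_scalar hE (hcond.resolve_left h4)
    obtain ⟨a, ha0, ha⟩ := hscale _ (hNM _ (fun k => ⟨k, fun x => by
      rw [mv_scalarGL hE, mv_scalarGL hE, smul_comm]⟩) hlG)
    have h1 := ha v (mem_W0 hvS)
    rw [mv_scalarGL hE, ← IsScalarTower.algebraMap_smul K a, smul_smul] at h1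
    have h2 := hanti_fix hvS hv'S hvv' h1
    rw [map_mul, hE.ext_map] at h2
    refine hlc (σ a / a) ?_
    rw [map_div₀, eq_div_iff ((map_ne_zero _).2 ha0)]
    linear_combination (algebraMap F K (σ a)) * hl - (l : K) * h2

end Cfsg.Agent.UFE
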