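/-
Maximality for field subalgebras closed under adjoints.
-/
import Cfsg.Agent.Lib.UnitaryFieldExt.Main
import Cfsg.Agent.Lib.Aschbacher.FormField

set_option autoImplicit false
set_option linter.all false

namespace Cfsg.Agent.UFE

open scoped Matrix
open Matrix Cfsg.Agent.Transvec
open Cfsg.Agent.FieldMax (IsKLin IsSemi)
open Cfsg.Agent.Aschbacher (IsHermLike fieldOf)

variable {ι : Type} [Fintype ι] [DecidableEq ι] {F : Type*} [Field F] [Fintype F]

/-- Unitary groups over extension fields, for a field embedded in the matrix algebra. -/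
theorem maximal_of_hom {σ : F ≃+* F} {f : (ι → F) → (ι → F) → F} (hf : Geo.IsUnitaryForm σ f) {r d : ℕ}
    (hr : r.Prime) (hι : Fintype.card ι = r * d) (hd : Even d) (hcond : 4 ≤ d ∨ 5 ≤ r ∨ r = 3 ∧ 3 ≤ Nat.card (Herm.fixedField σ)) (hd2 : 2 ≤ d) (hr3 : 3 ≤ r)
    {E : Type*} [Field E] [Algebra F E] (ρ : E →ₐ[F] Matrix ι ι F) (hfin : Module.finrank F E = r)
    (τ : E ≃+* E) (hadj : ∀ (k : E) u v, f (ρ k *ᵥ u) v = f u (ρ (τ k) *ᵥ v)) (hττ : ∀ k, τ (τ k) = k)
    (hτext : ∀ c : F, τ (algebraMap F E c) = algebraMap F E (σ c)) :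
    Geo.IsMaximalIn (preserving (Units.coeHom (Matrix ι ι F)) f ⊓ Geo.specialLinear ι F)
      (Geo.subalgebraNormalizer ρ.range ⊓ (preserving (Units.coeHom (Matrix ι ι F)) f ⊓ Geo.specialLinear ι F)) := by
  haveI : Nonempty ι := Fintype.card_pos_iff.1 (by rw [hι]; exact Nat.mul_pos hr.pos (by omega))
  haveI : Module.Finite F E := Module.finite_of_finrank_pos (hfin ▸ hr.pos)
  haveI : Finite E := Module.finite_of_finite F
  letI : Module E (ι → F) :=
    Module.compHom (ι → F) ((Matrix.toLinAlgEquiv' (R := F) (n := ι)).toAlgHom.comp ρ).toRingHom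
  have hsm : ∀ (k : E) (v : ι → F), k • v = ρ k *ᵥ v := fun k v => rfl
  haveI : IsScalarTower F E (ι → F) := ⟨fun c k v => by
    rw [hsm, hsm, map_smul, Matrix.smul_mulVec]⟩
  obtain ⟨b₀, hb₀⟩ := Herm.exists_trace hf.ne_refl hf.involutive 1 (map_one σ)
  obtain ⟨φ, hφ1⟩ : ∃ φ : Module.Dual F E, φ 1 = 1 := by
    obtain ⟨ψ, hψ, -⟩ := Submodule.exists_dual_map_eq_bot_of_notMem
      (fun h : (1 : E) ∈ (⊥ : Submodule F E) => one_ne_zero ((Submodule.mem_bot F).1 h)) inferInstance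
    exact ⟨(ψ 1)⁻¹ • ψ, by simp [inv_mul_cancel₀ hψ]⟩
  let ℓ : Module.Dual F E :=
    { toFun := fun a => b₀ * φ a + σ (b₀ * φ (τ a))
      map_add' := fun a b => by simp only [map_add, mul_add]; ring
      map_smul' := fun c a => by
        have e : τ (c • a) = σ c • τ a := by rw [Algebra.smul_def, Algebra.smul_def, map_mul, hτext]
        simp only [map_smul, e, smul_eq_mul, RingHom.id_apply, map_mul, hf.involutive]; ring }
  have hE : Ext σ f τ ℓ := by
    refine ⟨hf, fun k u v => ?_, hττ, hτext, fun h => ?_, fun k => ?_, hfin.symm ▸ hr⟩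
    · rw [hsm, hsm]; exact hadj k u v
    · have h1 : ℓ 1 = 0 := by rw [h]; rfl
      simp only [ℓ, LinearMap.coe_mk, AddHom.coe_mk, map_one τ, hφ1, mul_one] at h1
      exact one_ne_zero (α := F) (by rw [← hb₀]; exact h1)
    · show b₀ * φ (τ k) + σ (b₀ * φ (τ (τ k))) = σ (b₀ * φ k + σ (b₀ * φ (τ k)))
      rw [hττ, map_add, hf.involutive]; ring
  have hdK : Module.finrank E (ι → F) = d := by
    have h := Module.finrank_mul_finrank F E (ι → F)
    rw [hfin, Module.finrank_fintype_fun_eq_card, hι] at h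
    exact Nat.eq_of_mul_eq_mul_left hr.pos h
  refine maximal hE (hdK.symm ▸ hd) (by rw [hdK, hfin]; exact hcond) (hdK.symm ▸ hd2) (hfin.symm ▸ hr3) fun g => ?_
  have hcj : ∀ (x : Matrix ι ι F) (v : ι → F),
      mv g (x *ᵥ v) = ((g : Matrix ι ι F) * x * ((g⁻¹ : GL ι F) : Matrix ι ι F)) *ᵥ mv g v := by
    intro x v
    simp [mv, Matrix.mulVec_mulVec, mul_assoc]
  constructor
  · intro hg k
    obtain ⟨k', hk'⟩ := (hg (ρ k)).1 ⟨k, rfl⟩
    refine ⟨k', fun v => ?_⟩
    rw [hsm, hsm, hcj]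
    exact (congrArg (· *ᵥ mv g v) hk').symm
  · intro hg
    have hfwd : ∀ k : E, ∃ k' : E,
        ρ k' = (g : Matrix ι ι F) * ρ k * ((g⁻¹ : GL ι F) : Matrix ι ι F) := by
      intro k
      obtain ⟨k', hk'⟩ := hg k
      refine ⟨k', Matrix.ext_of_mulVec_single fun i => ?_⟩
      have e := hk' (mv g⁻¹ (Pi.single i 1))
      rw [hsm, hsm, hcj, mv_mv_inv] at e
      exact e.symm
    choose s hs using hfwd
    have hsi : Function.Injective s := by
      intro a b h
      refine (RingHom.injective ρ.toRingHom) ?_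
      have e : (g : Matrix ι ι F) * ρ a * ((g⁻¹ : GL ι F) : Matrix ι ι F) =
          (g : Matrix ι ι F) * ρ b * ((g⁻¹ : GL ι F) : Matrix ι ι F) := by rw [← hs, ← hs, h]
      exact (Units.mul_right_inj g).1 ((Units.mul_left_inj g⁻¹).1 e)
    intro x
    constructor
    · rintro ⟨k, rfl⟩
      exact ⟨s k, hs k⟩
    · rintro ⟨k, hk⟩
      obtain ⟨k₀, rfl⟩ := Finite.injective_iff_surjective.1 hsi k
      exact ⟨k₀, (Units.mul_right_inj g).1 ((Units.mul_left_inj g⁻¹).1 ((hs k₀).symm.trans hk))⟩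

/-- Unitary groups over extension fields of prime degree in even dimension give maximal subgroups. -/
theorem subalgebra_maximal {σ : F ≃+* F} {f : (ι → F) → (ι → F) → F} (hf : Geo.IsUnitaryForm σ f) {r d : ℕ}
    (hr : r.Prime) (hι : Fintype.card ι = r * d) (hd : Even d) (hcond : 4 ≤ d ∨ 5 ≤ r ∨ r = 3 ∧ 3 ≤ Nat.card (Herm.fixedField σ)) (hd2 : 2 ≤ d) (hr3 : 3 ≤ r)
    {R : Subalgebra F (Matrix ι ι F)} (hR : Geo.IsFieldSubalgebra r R) (hadj : Geo.IsAdjointClosedFor f R) :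
    Geo.IsMaximalIn (preserving (Units.coeHom (Matrix ι ι F)) f ⊓ Geo.specialLinear ι F)
      (Geo.subalgebraNormalizer R ⊓ (preserving (Units.coeHom (Matrix ι ι F)) f ⊓ Geo.specialLinear ι F)) := by
  haveI : Nonempty ι := Fintype.card_pos_iff.1 (by rw [hι]; exact Nat.mul_pos hr.pos (by omega))
  letI := fieldOf hR
  have hl := IsHermLike.of_unitary hf
  have h := maximal_of_hom hf hr hι hd hcond hd2 hr3 (E := R) R.val hR.finrank_eq (hl.adjEquiv hR hadj)
    (fun k u v => hl.adj_spec k.1 u v) (fun k => Subtype.ext (hl.adj_adj k.1))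
    (fun c => Subtype.ext (hl.adj_algebraMap c))
  rwa [Subalgebra.range_val] at h

end Cfsg.Agent.UFE
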